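import Groth.Agent.MeroLib.Extend
import Groth.Agent.Coherent.QcohOps
import Groth.Agent.CAlgH3.Depth
import Mathlib

/-!
# Torsion-free modules, depth zero, generic points
-/

set_option autoImplicit false
set_option backward.isDefEq.respectTransparency.types false
universe u

open CategoryTheory AlgebraicGeometry Opposite TopologicalSpace
open Groth.Agent.AssSch12 Groth.Agent.Coherent
open Groth.Agent.CAlgH3 (annEl mem_annEl)

namespace Groth.Agent.MeroLib

variable {X : Scheme.{u}}

theorem bijective_algebraMap_KStalk_of_units {x : X} (h : ∀ a ∈ nonZeroDivisors (X.presheaf.stalk x), IsUnit a) :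
    Function.Bijective (algebraMap (X.presheaf.stalk x) (Mero.KStalk X x)) := by
  refine ⟨Mero.algebraMap_KStalk_injective x, fun q => ?_⟩
  induction q using LocalizedModule.induction_on with
  | h a b =>
    obtain ⟨v, hv⟩ := h b.1 (Mero.regStalk_le_nonZeroDivisors x b.2)
    refine ⟨a * (↑v⁻¹ : X.presheaf.stalk x), ((mk_eq_algebraMap_iff _ _ b).2 ?_).symm⟩
    rw [← hv, mul_assoc, Units.inv_mul, mul_one]

/-- On a locally Noetherian scheme a nonzerodivisor germ is the germ of a regular section. -/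
theorem exists_regSub_of_nzd [IsLocallyNoetherian X] {x : X} {g : X.presheaf.stalk x}
    (hg : g ∈ nonZeroDivisors (X.presheaf.stalk x)) :
    ∃ (T : X.Opens) (hxT : x ∈ T) (b : Γ(X, T)), IsAffineOpen T ∧ b ∈ Mero.regSub X T ∧
      X.presheaf.germ T x hxT b = g := by
  classical
  obtain ⟨V, hxV, a₀, rfl⟩ := X.presheaf.exists_germ_eq g
  obtain ⟨W, hW, hxW, hWV⟩ := exists_affine hxV
  haveI := isNoetherianRing_of_isAffineOpen hW
  let a := X.presheaf.map (homOfLE hWV).op a₀
  have ha : X.presheaf.germ W x hxW a ∈ nonZeroDivisors (X.presheaf.stalk x) := by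
    simp only [a]; rw [TopCat.Presheaf.germ_res_apply]; exact hg
  obtain ⟨S, hS⟩ := IsNoetherian.noetherian (LinearMap.ker (LinearMap.mulLeft Γ(X, W) a))
  have hker : ∀ k ∈ S, ∃ e : Γ(X, W), x ∈ X.basicOpen e ∧ e * k = 0 := fun k hk => by
    have hk0 : a * k = 0 := by
      have := LinearMap.mem_ker.1 (hS ▸ Submodule.subset_span hk : k ∈ LinearMap.ker (LinearMap.mulLeft Γ(X, W) a))
      exact this
    have h0 : X.presheaf.germ W x hxW k = 0 := mem_nonZeroDivisors_iff.1 ha |>.1 _ (by rw [← map_mul, hk0, map_zero])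
    obtain ⟨e, he, hep⟩ := SetLike.not_le_iff_exists.1 ((SDiv28.germ_eq_zero_iff hW hxW k).1 h0)
    exact ⟨e, (notMem_primeAt_iff hW hxW e).1 hep, mem_annEl.1 he⟩
  choose! e hxe he using hker
  let h := ∏ k ∈ S, e k
  have hxh : x ∈ X.basicOpen h := by
    refine (notMem_primeAt_iff hW hxW _).1 fun hm => ?_
    haveI : (primeAt hW hxW).IsPrime := (hW.primeIdealOf ⟨x, hxW⟩).2
    obtain ⟨k, hk, hk'⟩ := (Ideal.IsPrime.prod_mem_iff (p := primeAt hW hxW)).1 hm
    exact (notMem_primeAt_iff hW hxW _).2 (hxe k hk) hk'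
  have hann : ∀ z : Γ(X, W), a * z = 0 → h * z = 0 := fun z hz => by
    have hmem : z ∈ LinearMap.ker (LinearMap.mulLeft Γ(X, W) a) := hz
    rw [← hS] at hmem
    refine Submodule.span_induction (fun k hk => ?_) (mul_zero h) (fun p q _ _ hp hq => ?_)
      (fun c p _ hp => ?_) hmem
    · obtain ⟨c, hc⟩ : e k ∣ h := Finset.dvd_prod_of_mem _ hk
      rw [hc, mul_right_comm, he k hk, zero_mul]
    · rw [mul_add, hp, hq, add_zero]
    · rw [smul_eq_mul, mul_left_comm, hp, mul_zero]
  refine ⟨X.basicOpen h, hxh, X.presheaf.map (homOfLE (X.basicOpen_le h)).op a, hW.basicOpen h, ?_, ?_⟩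
  · rw [regSub_eq_of_isAffineOpen (hW.basicOpen h), mem_nonZeroDivisors_iff_right]
    intro z hz
    haveI := hW.isLocalization_basicOpen h
    obtain ⟨⟨k, t⟩, hk⟩ := IsLocalization.surj (Submonoid.powers h) z
    have h2 : algebraMap Γ(X, W) Γ(X, X.basicOpen h) (k * a) = 0 := by
      rw [map_mul, ← hk, mul_right_comm]
      exact (congrArg (· * _) hz).trans (zero_mul _)
    obtain ⟨s, hs⟩ := (IsLocalization.map_eq_zero_iff (Submonoid.powers h) _ _).1 h2
    have h3 : h * (s.1 * k) = 0 := hann _ (by rw [← hs]; ring)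
    have h4 : algebraMap Γ(X, W) Γ(X, X.basicOpen h) k = 0 := by
      obtain ⟨n, hn⟩ := s.2
      refine (IsLocalization.map_eq_zero_iff (Submonoid.powers h) _ _).2 ⟨⟨h ^ (n + 1), n + 1, rfl⟩, ?_⟩
      rw [show (h ^ (n + 1)) * k = h * (h ^ n * k) by ring]
      exact (congrArg (fun e => h * (e * k)) hn).trans h3
    exact (IsLocalization.map_units Γ(X, X.basicOpen h) t).mul_left_eq_zero.1 (hk.trans h4)
  · rw [TopCat.Presheaf.germ_res_apply]
    exact TopCat.Presheaf.germ_res_apply X.presheaf _ x hxW a₀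

theorem isUnit_of_regSub_of_weak {W : X.Opens} {b : Γ(X, W)} (hb : b ∈ Mero.regSub X W) {y : X} (hy : y ∈ W)
    (hyw : y ∈ weakPts X) : IsUnit (X.presheaf.germ W y hy b) :=
  isUnit_of_regular_of_assoc ((SDiv28.isWeakAssPoint_structureModule_iff y).1 hyw) (hb ⟨y, hy⟩)

theorem mono_of_app_injective {M N : X.Modules} (φ : M ⟶ N) (h : ∀ U, Function.Injective (φ.app U)) :
    Mono φ := by
  refine ⟨fun {Z} f g e => ?_⟩
  refine SheafOfModules.Hom.ext (PresheafOfModules.hom_ext fun U => ModuleCat.hom_ext (LinearMap.ext fun z => ?_))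
  exact h U.unop (congrArg (fun ψ : Z ⟶ N => ψ.app U.unop z) e :)

theorem mono_toMer_iff [IsLocallyNoetherian X] (F : X.Modules) [F.IsQuasicoherent] :
    Mono (Mero.toMer F) ↔ ∀ x : ↥X, Curv2.IsAssPoint F x → x ∈ weakPts X := by
  constructor
  · intro hmono x hx
    obtain ⟨m, hm⟩ := (SDiv28.isWeakAssPoint_iff_isAssPoint F x).2 hx
    by_contra hxw
    have hass : IsLocalRing.maximalIdeal (X.presheaf.stalk x) ∉
        associatedPrimes (X.presheaf.stalk x) (X.presheaf.stalk x) :=
      fun h => hxw ((SDiv28.isWeakAssPoint_structureModule_iff x).2 h)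
    obtain ⟨g, hgm, hg⟩ := CAlgH3.exists_regular_iff_notMem_associatedPrimes.2 hass
    have hg' : g ∈ nonZeroDivisors (X.presheaf.stalk x) :=
      mem_nonZeroDivisors_iff_right.2 fun z hz => hg.right_eq_zero_of_smul ((mul_comm g z).trans hz)
    rw [← hm] at hgm
    obtain ⟨n, hn⟩ := hgm
    replace hn : g ^ n • m = 0 := hn
    obtain ⟨T, hxT, b, -, hb, rfl⟩ := exists_regSub_of_nzd hg'
    obtain ⟨V, hxV, t, rfl⟩ := F.presheaf.exists_germ_eq m
    have h0 : F.presheaf.germ (T ⊓ V) x ⟨hxT, hxV⟩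
        (X.presheaf.map (homOfLE (inf_le_left : T ⊓ V ≤ T)).op (b ^ n) • resM F (inf_le_right : T ⊓ V ≤ V) t) =
        F.presheaf.germ (T ⊓ V) x ⟨hxT, hxV⟩ 0 := by
      rw [map_zero, QCohLoc.germ_smul', TopCat.Presheaf.germ_res_apply, TopCat.Presheaf.germ_res_apply,
        map_pow]
      exact hn
    obtain ⟨W, hxW, i, j, hW⟩ := TopCat.Presheaf.germ_eq F.presheaf (U := T ⊓ V) (V := T ⊓ V) x
      ⟨hxT, hxV⟩ ⟨hxT, hxV⟩ _ _ h0
    have hz : (Mero.toMer F).app W (resM F (i.le.trans inf_le_right) t) = (Mero.toMer F).app W 0 := by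
      rw [map_zero]
      refine Subtype.ext (funext fun y => ?_)
      show (LocalizedModule.mk (F.presheaf.germ W y.1 y.2 (resM F (i.le.trans inf_le_right) t)) 1 :
        Mero.MStalk F y.1) = 0
      rw [TopCat.Presheaf.germ_res_apply, ← LocalizedModule.zero_mk 1, LocalizedModule.mk_eq]
      refine ⟨Mero.regGerm ⟨y.1, (i.le y.2).1⟩ ⟨b ^ n, pow_mem hb n⟩, ?_⟩
      simp only [one_smul, smul_zero, Submonoid.smul_def]
      have h2 := congrArg (F.presheaf.germ W y.1 y.2) hW
      rw [TopCat.Presheaf.germ_res_apply, TopCat.Presheaf.germ_res_apply, map_zero, QCohLoc.germ_smul',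
        TopCat.Presheaf.germ_res_apply, TopCat.Presheaf.germ_res_apply] at h2
      exact h2
    have h3 := congrArg (F.presheaf.germ W x hxW) (app_injective_of_mono (Mero.toMer F) W hz)
    rw [TopCat.Presheaf.germ_res_apply, map_zero] at h3
    have hm0 : LinearMap.ker (LinearMap.toSpanSingleton (X.presheaf.stalk x) (F.presheaf.stalk x)
        (F.presheaf.germ V x hxV t)) = ⊤ := by
      rw [SDiv28.ker_toSpanSingleton_eq, CAlgH3.annEl_eq_top]; exact h3
    rw [hm0, Ideal.radical_top] at hm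
    exact (IsLocalRing.maximalIdeal.isMaximal _).ne_top hm.symm
  · intro h
    refine mono_of_app_injective _ fun U => (injective_iff_map_eq_zero _).2 fun t ht => ?_
    refine SDiv28.eq_zero_of_germ_weakAss F t fun y hy hyw => ?_
    have hyO := h y ((SDiv28.isWeakAssPoint_iff_isAssPoint F y).1 hyw)
    have h1 : (LocalizedModule.mk (F.presheaf.germ U y hy t) 1 : Mero.MStalk F y) = 0 :=
      congrArg (fun f : Γ(Mero.merMod F, U) => f.1 ⟨y, hy⟩) ht
    rw [← LocalizedModule.zero_mk 1, LocalizedModule.mk_eq] at h1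
    obtain ⟨v, hv⟩ := h1
    simp only [one_smul, smul_zero, Submonoid.smul_def] at hv
    have hu := isUnit_of_regular_of_assoc ((SDiv28.isWeakAssPoint_structureModule_iff y).1 hyO)
      (Mero.regStalk_le_nonZeroDivisors y v.2)
    exact hu.smul_eq_zero.1 hv

theorem max_of_closure_mem {x : X} (hx : closure ({x} : Set X) ∈ irreducibleComponents (X : Type u))
    (z : X) (hz : z ⤳ x) : z = x := by
  have hle : closure ({x} : Set X) ⊆ closure {z} := specializes_iff_closure_subset.1 hz
  exact (inseparable_iff_closure_eq.2 (le_antisymm (hx.2 isIrreducible_singleton.closure hle) hle)).eq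

theorem exists_max_specializes (p : X) : ∃ z : X, z ⤳ p ∧ ∀ w : X, w ⤳ z → w = z := by
  obtain ⟨Z, hZ, hpZ⟩ : ∃ Z ∈ irreducibleComponents (X : Type u), p ∈ Z :=
    ⟨irreducibleComponent p, irreducibleComponent_mem_irreducibleComponents p, mem_irreducibleComponent⟩
  obtain ⟨z, hz⟩ := QuasiSober.sober hZ.1 (isClosed_of_mem_irreducibleComponents Z hZ)
  exact ⟨z, hz.specializes hpZ, max_of_closure_mem (hz.def.symm ▸ hZ)⟩

theorem isField_stalk_of_max [IsReduced X] {x : X} (hx : ∀ z : X, z ⤳ x → z = x) :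
    IsField (X.presheaf.stalk x) := by
  obtain ⟨W, hW, hxW, -⟩ := exists_affine (show x ∈ (⊤ : X.Opens) from trivial)
  letI := TopCat.Presheaf.algebra_section_stalk X.presheaf (⟨x, hxW⟩ : W)
  haveI := hW.isLocalization_stalk ⟨x, hxW⟩
  have hmin := (SDiv28.mem_minimalPrimes_iff hW hxW).2 hx
  rw [IsLocalRing.isField_iff_maximalIdeal_eq, eq_bot_iff]
  intro a ha
  refine IsReduced.eq_zero _ (nilpotent_iff_mem_prime.2 fun P hP => ?_)
  haveI := hP
  obtain ⟨hp, hd⟩ := (IsLocalization.isPrime_iff_isPrime_disjoint (primeAt hW hxW).primeCompl _ P).1 hP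
  have heq : P.comap (algebraMap Γ(X, W) (X.presheaf.stalk x)) = primeAt hW hxW := by
    have hle : P.comap (algebraMap Γ(X, W) (X.presheaf.stalk x)) ≤ primeAt hW hxW := fun r hr => by
      by_contra h; exact Set.disjoint_left.1 hd h hr
    exact le_antisymm hle (hmin.2 ⟨hp, bot_le⟩ hle)
  rw [← IsLocalization.map_under (primeAt hW hxW).primeCompl _ P]
  show a ∈ Ideal.map _ (P.comap _)
  rw [heq]
  exact (maximalIdeal_eq_map_primeAt hW hxW).le ha

end Groth.Agent.MeroLib
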