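import Groth.Agent.MeroLib.OfMero
import Groth.Agent.ZeroSchLib.Basic
import Groth.Agent.AmpleLib.Tensor
import Groth.Prelude.Def_SecTwist
import Mathlib

/-!
# Zero schemes of sections and divisors; `O(D) ⊗ O(E) ≅ O(DE)`
-/

set_option autoImplicit false
set_option backward.isDefEq.respectTransparency.types false
universe u

open CategoryTheory AlgebraicGeometry Opposite TopologicalSpace
open Groth.Agent.Coherent Groth.Agent.PicLib

namespace Groth.Agent.MeroLib

variable {X : Scheme.{u}}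

/-- The section `1` of `O_X(D)` for `D` effective. -/
noncomputable def oneSec (D : Mero.Divisor X) (hD : Mero.IsEffective D) : Γ(Mero.divMod D, (⊤ : X.Opens)) :=
  ⟨(1 : Γ(Mero.kmod X, ⊤)).1, (1 : Γ(Mero.kmod X, ⊤)).2, fun y => by
    obtain ⟨c, hc⟩ := hD y.1
    exact (divCond_iff D hc _).2 ⟨c.1, by
      rw [Mero.kmod_one_apply, one_mul]; exact (IsUnit.unit_spec _).symm⟩⟩

theorem germOf_fracUnit_one {W : X.Opens} (a : Mero.regSub X W) (y : W) :
    Mero.germOf (fracUnit a 1) y =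
      QuotientGroup.mk (IsLocalization.map_units (Mero.KStalk X y.1) (Mero.regGerm y a)).unit := by
  refine congrArg QuotientGroup.mk (Units.ext ?_)
  show (frac a.1 1).1 y = algebraMap _ _ (X.presheaf.germ W y.1 y.2 a.1)
  rw [← (isUnit_algebraMap_germ 1 y).mul_left_inj, frac_val_mul, OneMemClass.coe_one, map_one, map_one, mul_one]

theorem inv_fracUnit_one_mul {W : X.Opens} (a : Mero.regSub X W) :
    Mero.toK X W a.1 * ((fracUnit a 1)⁻¹ : (Γ(Mero.kmod X, W))ˣ).val = 1 := by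
  have h : Mero.toK X W a.1 = frac a.1 1 := Subtype.ext (funext fun y => by
    rw [← (isUnit_algebraMap_germ 1 y).mul_left_inj, frac_val_mul, OneMemClass.coe_one, map_one, map_one,
      mul_one, toK_val])
  rw [h]
  exact (fracUnit a 1).mul_inv

/-- An isomorphism transports generators. -/
theorem isGen_of_iso {L M : X.Modules} (e : L ≅ M) {U : X.Opens} {t : Γ(M, U)} (ht : IsGen M U t) :
    IsGen L U (e.inv.app U t) := by
  intro V hV
  have : (fun r : Γ(X, V) => r • resM L hV (e.inv.app U t)) = (e.inv.app V) ∘ fun r => r • resM M hV t := by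
    funext r
    rw [Function.comp_apply, Scheme.Modules.Hom.app_smul, app_resM]
  rw [this]
  exact (ConcreteCategory.bijective_of_isIso (e.inv.app V)).comp (ht V hV)

/-- Effective divisors are zero schemes of sections. -/
theorem exists_section_isDivOfIdeal [AlgebraicGeometry.IsIntegral X] {L : X.Modules} (hL : PicF.IsInvertible L)
    (D : Mero.Divisor X) (hD : Mero.IsEffective D) (e : L ≅ Mero.divMod D) :
    ∃ s : Coh.structureModule X ⟶ L, s ≠ 0 ∧ Mero.IsDivOfIdeal D (PicF2.zeroScheme L s) := by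
  let σ := unitDesc L (e.inv.app ⊤ (oneSec D hD))
  have hloc : ∀ x : X, ∃ (W : X.Opens) (_ : x ∈ W) (hW : IsAffineOpen W) (g : Γ(L, W)) (hg : IsGen L W g)
      (hf : hg.coef le_rfl (unitVal σ W) ∈ Mero.regSub X W),
      ∀ y : W, D.1 y.1 = Mero.germOf (fracUnit ⟨_, hf⟩ 1) y := by
    intro x
    obtain ⟨W, hW, hxW, a, b, hab⟩ := exists_divisor_fraction D x
    obtain ⟨t, ht, htgen⟩ := exists_gen_divMod D (fracUnit a b) (fun y => hab y.1 y.2)
    have hg := isGen_of_iso e htgen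
    let c := hg.coef le_rfl (unitVal σ W)
    have hc : ∀ y : W, algebraMap _ (Mero.KStalk X y.1) (X.presheaf.germ W y.1 y.2 c) =
        (fracUnit a b : Γ(Mero.kmod X, W)).1 y := by
      intro y
      have h1 : (Mero.divModι D).app W (e.hom.app W (c • e.inv.app W t)) =
          (Mero.divModι D).app W (e.hom.app W (unitVal σ W)) := by
        congr 2
        have := hg.coef_spec le_rfl (unitVal σ W)
        rwa [resM_self] at this
      have hei : ∀ (V : X.Opens) (z : Γ(Mero.divMod D, V)), e.hom.app V (e.inv.app V z) = z := fun V z => by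
        rw [← ConcreteCategory.comp_apply, ← Scheme.Modules.Hom.comp_app, e.inv_hom_id, Scheme.Modules.Hom.id_app,
          ConcreteCategory.id_apply]
      rw [unitVal_unitDesc, Scheme.Modules.Hom.app_smul, hei, app_resM, hei, Scheme.Modules.Hom.app_smul, ht,
        app_resM] at h1
      have h2 := congrArg (fun f : Γ(Mero.kmod X, W) => f.1 y) ((smul_eq_toK_mul _ _).symm.trans h1)
      simp only [Mero.kmod_mul_apply, toK_val] at h2
      have h4 : algebraMap _ (Mero.KStalk X y.1) (X.presheaf.germ W y.1 y.2 c) *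
          ((fracUnit a b)⁻¹ : (Γ(Mero.kmod X, W))ˣ).val.1 y = 1 := h2
      have h3 : ((fracUnit a b)⁻¹ : (Γ(Mero.kmod X, W))ˣ).val.1 y * (fracUnit a b : Γ(Mero.kmod X, W)).1 y = 1 :=
        congrArg (fun f : Γ(Mero.kmod X, W) => f.1 y) (fracUnit a b).inv_mul
      exact left_inv_eq_right_inv h4 h3
    have hcr : c ∈ Mero.regSub X W := fun y => by
      have hm : algebraMap _ _ (X.presheaf.germ W y.1 y.2 c) * algebraMap _ (Mero.KStalk X y.1)
          (X.presheaf.germ W y.1 y.2 b.1) = algebraMap _ _ (X.presheaf.germ W y.1 y.2 a.1) := by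
        rw [hc y]; exact frac_val_mul a.1 b y
      rw [← map_mul] at hm
      have := a.2 y
      rw [← Mero.algebraMap_KStalk_injective y.1 hm] at this
      exact (mul_mem_nonZeroDivisors.1 this).1
    refine ⟨W, hxW, hW, _, hg, hcr, fun y => (hab y.1 y.2).trans (congrArg _ (Units.ext ?_))⟩
    show (fracUnit a b : Γ(Mero.kmod X, W)).1 y = (frac c 1).1 y
    rw [← hc y, ← (isUnit_algebraMap_germ 1 y).mul_left_inj, frac_val_mul, OneMemClass.coe_one, map_one,
      map_one, mul_one]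
  refine ⟨σ, fun h0 => ?_, fun x => ?_⟩
  · obtain ⟨x⟩ := (inferInstance : Nonempty X)
    obtain ⟨W, hxW, hW, g, hg, hf, -⟩ := hloc x
    have h1 : hg.coef le_rfl (unitVal σ W) = 0 := hg.coef_eq _ (by rw [zero_smul, h0]; rfl)
    have := hf ⟨x, hxW⟩
    rw [h1, map_zero] at this
    exact zero_notMem_nonZeroDivisors this
  · obtain ⟨W, hxW, hW, g, hg, hf, hy⟩ := hloc x
    exact ⟨⟨W, hW⟩, hxW, _, hf, ZeroSchLib.zeroScheme_ideal_eq_span σ hL ⟨W, hW⟩ hg,
      fun y => (hy y).trans (germOf_fracUnit_one ⟨_, hf⟩ y)⟩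

/-- A nonzero section of an invertible module on an integral scheme cuts out a divisor. -/
theorem exists_divisor_of_section [AlgebraicGeometry.IsIntegral X] {L : X.Modules} (hL : PicF.IsInvertible L)
    (s : Coh.structureModule X ⟶ L) (hs : s ≠ 0) :
    ∃ D : Mero.Divisor X, Mero.IsDivOfIdeal D (PicF2.zeroScheme L s) ∧
      ∃ e : L ≅ Mero.divMod D, (Mero.divModι D).app ⊤ (e.hom.app ⊤ (unitVal s ⊤)) = 1 := by
  have hch : ∀ x : X, ∃ (W : X.Opens) (_ : x ∈ W) (_ : IsAffineOpen W) (g : Γ(L, W)), IsGen L W g := fun x => by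
    obtain ⟨U, hxU, g, hg⟩ := exists_isGen hL x
    obtain ⟨W, hW, hxW, hWU⟩ := exists_affine hxU
    exact ⟨W, hxW, hW, resM L hWU g, hg.restrict hWU⟩
  choose U hxU hUa g hg using hch
  have hcov : iSup U = ⊤ := top_le_iff.1 fun x _ => Opens.mem_iSup.2 ⟨x, hxU x⟩
  let c : ∀ x, Γ(X, U x) := fun x => (hg x).coef le_rfl (unitVal s (U x))
  have hcs : ∀ x, c x • g x = unitVal s (U x) := fun x => by
    have h := (hg x).coef_spec le_rfl (unitVal s (U x))
    rwa [resM_self] at h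
  have hne : ∀ x, c x ≠ 0 := by
    intro x h0
    refine hs (hom_ext_gen (L := Coh.structureModule X) U hcov (fun i => unitVal (𝟙 _) (U i))
      (fun i V hV => ?_) _ _ fun i => ?_)
    · have : (fun r : Γ(X, V) => r • resM (Coh.structureModule X) hV (unitVal (𝟙 _) (U i))) = id := funext fun r => by
        rw [resM_unitVal, ← app_unit]; rfl
      rw [this]; exact Function.bijective_id
    · show unitVal s (U i) = _
      have hi : c i = 0 := by
        haveI : Nonempty ↥((U x ⊓ U i : X.Opens) : Scheme.{u}) := by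
          obtain ⟨p, hp⟩ := nonempty_preirreducible_inter (U x).isOpen (U i).isOpen ⟨x, hxU x⟩ ⟨i, hxU i⟩
          exact ⟨⟨p, hp⟩⟩
        refine map_injective_of_isIntegral X (homOfLE (inf_le_right : U x ⊓ U i ≤ U i)) ?_
        rw [map_zero]
        refine ((hg i) (U x ⊓ U i) inf_le_right).1 ?_
        show res inf_le_right (c i) • resM L inf_le_right (g i) = (0 : Γ(X, U x ⊓ U i)) • resM L inf_le_right (g i)
        rw [← resM_smul, hcs, zero_smul, resM_unitVal, ← resM_unitVal s (inf_le_left : U x ⊓ U i ≤ U x), ← hcs x,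
          h0, zero_smul, map_zero]
      rw [← hcs i, hi, zero_smul]
      rfl
  have hreg : ∀ x, c x ∈ Mero.regSub X (U x) := fun x => by
    haveI : Nonempty ↥((U x : X.Opens) : Scheme.{u}) := ⟨⟨x, hxU x⟩⟩
    rw [regSub_eq_of_isAffineOpen (hUa x), mem_nonZeroDivisors_iff_ne_zero]
    exact hne x
  obtain ⟨D, hD, e, he⟩ := exists_divisor_iso_of_charts U hxU g hg (fun x => ⟨c x, hreg x⟩) (fun _ => 1) (by
    intro i j y hi hj d h
    rw [OneMemClass.coe_one, OneMemClass.coe_one, map_one, map_one, mul_one, mul_one]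
    refine (SDiv28.bijective_smul_germ_gen (hg j) hj).1 ?_
    show _ • _ = _ • _
    rw [mul_comm d, mul_smul, ← h, ← QCohLoc.germ_smul', ← QCohLoc.germ_smul', hcs, hcs,
      ← resM_unitVal s (le_top : U j ≤ ⊤), ← resM_unitVal s (le_top : U i ≤ ⊤), TopCat.Presheaf.germ_res_apply,
      TopCat.Presheaf.germ_res_apply])
  refine ⟨D, fun x => ⟨⟨U x, hUa x⟩, hxU x, c x, hreg x,
    ZeroSchLib.zeroScheme_ideal_eq_span s hL ⟨U x, hUa x⟩ (hg x),
    fun y => (hD x y).trans (germOf_fracUnit_one _ y)⟩, e, ?_⟩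
  refine Subtype.ext (funext fun y => ?_)
  have h1 : resM (Mero.kmod X) (le_top : U y.1 ≤ ⊤) ((Mero.divModι D).app ⊤ (e.hom.app ⊤ (unitVal s ⊤))) = 1 := by
    rw [← app_resM, ← app_resM, resM_unitVal, ← hcs, Scheme.Modules.Hom.app_smul, Scheme.Modules.Hom.app_smul, he]
    exact (smul_eq_toK_mul _ _).trans (inv_fracUnit_one_mul ⟨c y.1, hreg y.1⟩)
  exact congrArg (fun f : Γ(Mero.kmod X, U y.1) => f.1 ⟨y.1, hxU y.1⟩) h1

theorem exists_span_restrict {D : Mero.Divisor X} {I : X.IdealSheafData} (h : Mero.IsDivOfIdeal D I) (x : X)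
    {V : X.Opens} (hx : x ∈ V) :
    ∃ (W : X.affineOpens) (_ : x ∈ W.1) (_ : W.1 ≤ V) (f : Γ(X, W.1)) (hf : f ∈ Mero.regSub X W.1),
      I.ideal W = Ideal.span {f} ∧ ∀ y : W.1, D.1 y.1 =
        QuotientGroup.mk (IsLocalization.map_units (Mero.KStalk X y.1) (Mero.regGerm y ⟨f, hf⟩)).unit := by
  obtain ⟨U, hxU, f, hf, hI, hy⟩ := h x
  obtain ⟨W, hW, hxW, hWV⟩ := exists_affine (show x ∈ V ⊓ U.1 from ⟨hx, hxU⟩)
  have hWU : W ≤ U.1 := hWV.trans inf_le_right
  refine ⟨⟨W, hW⟩, hxW, hWV.trans inf_le_left, res hWU f, Mero.regSub_res _ hf, ?_, fun y => ?_⟩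
  · rw [← I.map_ideal (show (⟨W, hW⟩ : X.affineOpens) ≤ U from hWU), hI, Ideal.map_span, Set.image_singleton]; rfl
  · refine (hy ⟨y.1, hWU y.2⟩).trans (congrArg QuotientGroup.mk (Units.ext ?_))
    show algebraMap _ _ (X.presheaf.germ U.1 y.1 _ f) = algebraMap _ _ (X.presheaf.germ W y.1 y.2 (res hWU f))
    rw [TopCat.Presheaf.germ_res_apply]

theorem isDivOfIdeal_mul [AlgebraicGeometry.IsIntegral X] {L₁ L₂ : X.Modules}
    (hL₁ : PicF.IsInvertible L₁) (hL₂ : PicF.IsInvertible L₂)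
    (s₁ : Coh.structureModule X ⟶ L₁) (s₂ : Coh.structureModule X ⟶ L₂) (D₁ D₂ : Mero.Divisor X)
    (hD₁ : Mero.IsDivOfIdeal D₁ (PicF2.zeroScheme L₁ s₁))
    (hD₂ : Mero.IsDivOfIdeal D₂ (PicF2.zeroScheme L₂ s₂)) :
    Mero.IsDivOfIdeal (D₁ * D₂) (PicF2.zeroScheme (CohB1.tensorMod L₁ L₂) (SecTwist.tmulHom s₁ s₂)) := by
  intro x
  obtain ⟨T₁, hxT₁, g₁, hg₁⟩ := exists_isGen hL₁ x
  obtain ⟨T₂, hxT₂, g₂, hg₂⟩ := exists_isGen hL₂ x
  obtain ⟨W₁, hxW₁, hW₁T, f₁', hf₁', hI₁', hy₁'⟩ := exists_span_restrict hD₁ x (show x ∈ T₁ ⊓ T₂ from ⟨hxT₁, hxT₂⟩)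
  obtain ⟨W, hxW, hWW₁, f₂, hf₂, hI₂, hy₂⟩ := exists_span_restrict hD₂ x hxW₁
  let f₁ := res hWW₁ f₁'
  have hf₁ : f₁ ∈ Mero.regSub X W.1 := Mero.regSub_res _ hf₁'
  have hg := AmpleLib.isGen_tmul (hg₁.restrict (hWW₁.trans (hW₁T.trans inf_le_left)))
    (hg₂.restrict (hWW₁.trans (hW₁T.trans inf_le_right)))
  let c₁ := (hg₁.restrict (hWW₁.trans (hW₁T.trans inf_le_left))).coef le_rfl (unitVal s₁ W.1)
  let c₂ := (hg₂.restrict (hWW₁.trans (hW₁T.trans inf_le_right))).coef le_rfl (unitVal s₂ W.1)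
  have hspan : ∀ (f c : Γ(X, W.1)), f ∈ Mero.regSub X W.1 → Ideal.span {f} = Ideal.span {c} →
      ∃ u : Γ(X, W.1)ˣ, c = f * u := by
    intro f c _ he
    haveI : Nonempty ↥((W.1 : X.Opens) : Scheme.{u}) := ⟨⟨x, hxW⟩⟩
    exact (Ideal.span_singleton_eq_span_singleton.1 he).imp fun u hu => hu.symm
  obtain ⟨u₁, hu₁⟩ := hspan f₁ c₁ hf₁ (by
    rw [← ZeroSchLib.zeroScheme_ideal_eq_span s₁ hL₁ W, ← (PicF2.zeroScheme L₁ s₁).map_ideal (show W ≤ W₁ from hWW₁), hI₁',
      Ideal.map_span, Set.image_singleton]; rfl)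
  obtain ⟨u₂, hu₂⟩ := hspan f₂ c₂ hf₂ (by rw [← ZeroSchLib.zeroScheme_ideal_eq_span s₂ hL₂ W, hI₂])
  have hc : hg.coef le_rfl (unitVal (SecTwist.tmulHom s₁ s₂) W.1) = c₁ * c₂ := by
    refine hg.coef_eq _ ?_
    rw [resM_self, ← AmpleLib.tmul_smul_smul]
    refine Eq.trans ?_ (SecTwist.val_tmulHom s₁ s₂ W.1).symm
    refine congrArg₂ AmpleLib.tmul ?_ ?_
    · have h := (hg₁.restrict (hWW₁.trans (hW₁T.trans inf_le_left))).coef_spec le_rfl (unitVal s₁ W.1)
      rwa [resM_self] at h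
    · have h := (hg₂.restrict (hWW₁.trans (hW₁T.trans inf_le_right))).coef_spec le_rfl (unitVal s₂ W.1)
      rwa [resM_self] at h
  refine ⟨W, hxW, f₁ * f₂, Submonoid.mul_mem _ hf₁ hf₂, ?_, fun y => ?_⟩
  · rw [ZeroSchLib.zeroScheme_ideal_eq_span _ (AmpleLib.isInvertible_tensorMod hL₁ hL₂) W hg, hc, hu₁, hu₂,
      mul_mul_mul_comm, ← Units.val_mul, Ideal.span_singleton_mul_right_unit (u₁ * u₂).isUnit]
  · show D₁.1 y.1 * D₂.1 y.1 = _
    rw [hy₁' ⟨y.1, hWW₁ y.2⟩, hy₂ y, ← QuotientGroup.mk_mul]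
    refine congrArg QuotientGroup.mk (Units.ext ?_)
    show algebraMap _ _ (X.presheaf.germ W₁.1 y.1 _ f₁') * algebraMap _ _ (X.presheaf.germ W.1 y.1 y.2 f₂) =
      algebraMap _ _ (X.presheaf.germ W.1 y.1 y.2 (f₁ * f₂))
    rw [map_mul, map_mul, TopCat.Presheaf.germ_res_apply]

theorem exists_tensor_iso (D E : Mero.Divisor X) :
    ∃ μ : CohB1.tensorMod (Mero.divMod D) (Mero.divMod E) ⟶ Mero.divMod (D * E),
      (∀ (U : X.Opens) (t : Γ(Mero.divMod D, U)) (t' : Γ(Mero.divMod E, U)),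
        (Mero.divModι (D * E)).app U (μ.app U (AmpleLib.tmul t t')) =
          (Mero.divModι D).app U t * (Mero.divModι E).app U t') ∧
      IsIso μ := by
  have hmul : ∀ (y : X) (t t' : Mero.KStalk X y), Mero.DivCond D y t → Mero.DivCond E y t' →
      Mero.DivCond (D * E) y (t * t') := fun y t t' h h' => by
    obtain ⟨g, hg⟩ := QuotientGroup.mk_surjective (D.1 y)
    obtain ⟨g', hg'⟩ := QuotientGroup.mk_surjective (E.1 y)
    refine (divCond_iff (D * E) (g := g * g') ?_ _).2 ?_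
    · show D.1 y * E.1 y = _; rw [← hg, ← hg']; rfl
    · rw [Units.val_mul, mul_mul_mul_comm]; exact mul_mem (h g hg.symm) (h' g' hg'.symm)
  let m : ∀ U : X.Opens, Γ(Mero.divMod D, U) → Γ(Mero.divMod E, U) → Γ(Mero.divMod (D * E), U) := fun U t t' =>
    ⟨fun y => t.1 y * t'.1 y, Mero.kLoc_mul X U t.1 t'.1 t.2.1 t'.2.1, fun y => hmul y.1 _ _ (t.2.2 y) (t'.2.2 y)⟩
  let β : AmpleLib.Bilin (Mero.divMod D) (Mero.divMod E) (Mero.divMod (D * E)) :=
    { app := m
      add_left := fun U a a' b => Subtype.ext (funext fun y => add_mul (a.1 y) (a'.1 y) (b.1 y))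
      add_right := fun U a b b' => Subtype.ext (funext fun y => mul_add (a.1 y) (b.1 y) (b'.1 y))
      smul_left := fun U r a b => Subtype.ext (funext fun y => smul_mul_assoc _ (a.1 y) (b.1 y))
      smul_right := fun U r a b => Subtype.ext (funext fun y => mul_smul_comm _ (a.1 y) (b.1 y))
      res := fun _ _ _ _ _ => rfl }
  have hval : ∀ (U : X.Opens) (t : Γ(Mero.divMod D, U)) (t' : Γ(Mero.divMod E, U)),
      (Mero.divModι (D * E)).app U (β.desc.app U (AmpleLib.tmul t t')) =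
        (Mero.divModι D).app U t * (Mero.divModι E).app U t' := fun U t t' => by
    rw [AmpleLib.Bilin.desc_tmul]; rfl
  refine ⟨β.desc, hval, ?_⟩
  choose W₁ hW₁a hx₁ a b hab using exists_divisor_fraction D
  choose W₂ hW₂a hx₂ a' b' hab' using exists_divisor_fraction E
  let U : X → X.Opens := fun x => W₁ x ⊓ W₂ x
  let u : ∀ x, (Γ(Mero.kmod X, U x))ˣ := fun x => resU inf_le_left (fracUnit (a x) (b x))
  let v : ∀ x, (Γ(Mero.kmod X, U x))ˣ := fun x => resU inf_le_right (fracUnit (a' x) (b' x))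
  have hu : ∀ x (y : U x), D.1 y.1 = Mero.germOf (u x) y := fun x y =>
    (hab x y.1 y.2.1).trans (congrArg QuotientGroup.mk (Units.ext rfl))
  have hv : ∀ x (y : U x), E.1 y.1 = Mero.germOf (v x) y := fun x y =>
    (hab' x y.1 y.2.2).trans (congrArg QuotientGroup.mk (Units.ext rfl))
  have huv : ∀ x (y : U x), (D * E).1 y.1 = Mero.germOf (u x * v x) y := fun x y => by
    show D.1 y.1 * E.1 y.1 = _
    rw [hu, hv]
    exact (QuotientGroup.mk_mul _ _ _).symm.trans (congrArg QuotientGroup.mk (Units.ext rfl))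
  choose t ht hgt using fun x => exists_gen_divMod D (u x) (hu x)
  choose t' ht' hgt' using fun x => exists_gen_divMod E (v x) (hv x)
  choose w hw hgw using fun x => exists_gen_divMod (D * E) (u x * v x) (huv x)
  refine isIso_of_gens β.desc U (top_le_iff.1 fun x _ => Opens.mem_iSup.2 ⟨x, hx₁ x, hx₂ x⟩)
    (fun x => AmpleLib.tmul (t x) (t' x)) (fun x => AmpleLib.isGen_tmul (hgt x) (hgt' x)) fun x => ?_
  have : β.desc.app (U x) (AmpleLib.tmul (t x) (t' x)) = w x := by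
    refine app_injective_of_mono (Mero.divModι (D * E)) (U x) ?_
    rw [hval, hw, ht, ht', mul_inv, Units.val_mul]
  rw [this]; exact hgw x

end Groth.Agent.MeroLib
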