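import Groth.Agent.MeroLib.Noeth
import Groth.Agent.SDiv28.SchDenseAss
import Mathlib

/-!
# Extending functions on schematically dense opens to meromorphic functions
-/

set_option autoImplicit false
set_option backward.isDefEq.respectTransparency.types false
universe u

open CategoryTheory AlgebraicGeometry Opposite TopologicalSpace
open Groth.Agent.AssSch12
open Groth.Agent.CAlgH3 (annEl mem_annEl)

namespace Groth.Agent.MeroLib

variable {X : Scheme.{u}}

/-- The weakly associated points of the structure sheaf. -/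
def weakPts (X : Scheme.{u}) : Set X := {y | Curv2.IsWeakAssPoint (Coh.structureModule X) y}

theorem finite_weakPts_of_noetherian [IsLocallyNoetherian X] {W : X.Opens} (hW : IsAffineOpen W) :
    {y | y ∈ W ∧ y ∈ weakPts X}.Finite := by
  haveI := isNoetherianRing_of_isAffineOpen hW
  have : {y : W | y.1 ∈ weakPts X}.Finite := by
    refine Set.Finite.of_finite_image ((associatedPrimes.finite Γ(X, W) Γ(X, W)).subset ?_)
      (f := fun y : W => primeAt hW y.2) ?_
    · rintro _ ⟨y, hy, rfl⟩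
      exact SDiv28.isAssociatedPrime_of_mem_ass (CAlgH3.mem_ass_of_mem_weakAss_of_fg
        (IsNoetherian.noetherian _) ((SDiv28.isWeakAssPoint_structureModule_iff_affine hW y.2).1 hy))
    · intro y _ z _ h
      exact Subtype.ext (SDiv28.eq_of_primeAt_eq hW y.2 z.2 h)
  refine (this.image Subtype.val).subset ?_
  rintro y ⟨hy, hw⟩
  exact ⟨⟨y, hy⟩, hw, rfl⟩

theorem closure_mem_irreducibleComponents {y : X} (hy : ∀ z : X, z ⤳ y → z = y) :
    closure ({y} : Set X) ∈ irreducibleComponents (X : Type u) := by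
  refine ⟨isIrreducible_singleton.closure, fun Z hZ hle => ?_⟩
  obtain ⟨g, hg⟩ := QuasiSober.sober hZ.closure isClosed_closure
  have hgy : g = y := hy g (hg.specializes (subset_closure (hle (subset_closure rfl))))
  show Z ⊆ closure {y}
  rw [← hgy, hg.def]
  exact subset_closure

theorem finite_maxPts_of_locallyFinite
    (hX : ∀ x : X, ∃ W : X.Opens, x ∈ W ∧
      {Z : Set ↥X | Z ∈ irreducibleComponents ↥X ∧ (Z ∩ (W : Set ↥X)).Nonempty}.Finite)
    {W : X.Opens} (hW : IsAffineOpen W) : {y | y ∈ W ∧ ∀ z : X, z ⤳ y → z = y}.Finite := by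
  choose N hxN hN using hX
  obtain ⟨T, hT⟩ := hW.isCompact.elim_finite_subcover (fun x => (N x : Set X)) (fun x => (N x).isOpen)
    (fun x _ => Set.mem_iUnion.2 ⟨x, hxN x⟩)
  refine Set.Finite.of_finite_image ((T.finite_toSet.biUnion (fun t _ => hN t)).subset ?_)
    (f := fun y => closure ({y} : Set X)) ?_
  · rintro _ ⟨y, ⟨hy, hm⟩, rfl⟩
    obtain ⟨t, ht, hyt⟩ := Set.mem_iUnion₂.1 (hT hy)
    exact Set.mem_iUnion₂.2 ⟨t, ht, closure_mem_irreducibleComponents hm, y, subset_closure rfl, hyt⟩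
  · intro a _ b _ hab
    exact (inseparable_iff_closure_eq.2 hab).eq

variable {U V : X.Opens}
  (hV : ∀ W : X.Opens, W ≤ U →
      Function.Injective ⇑(X.presheaf.map (homOfLE (inf_le_left : W ⊓ V ≤ W)).op))

include hV in
theorem eq_zero_of_germ_eq_zero {W : X.Opens} (hWU : W ≤ U) (s : Γ(X, W))
    (h : ∀ (y : X) (hy : y ∈ W), y ∈ V → X.presheaf.germ W y hy s = 0) : s = 0 := by
  refine hV W hWU ((section_ext fun y hy => ?_).trans (map_zero _).symm)
  rw [map_zero]
  exact (TopCat.Presheaf.germ_res_apply X.presheaf _ y hy s).trans (h y hy.1 hy.2)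

include hV in
theorem mem_of_weak_of_noetherian [IsLocallyNoetherian X] {x : X} (hx : x ∈ U) (hxw : x ∈ weakPts X) :
    x ∈ V := by
  by_contra hxV
  obtain ⟨W, hW, hxW, hWU⟩ := exists_affine hx
  haveI := isNoetherianRing_of_isAffineOpen hW
  obtain ⟨hp, s, hs⟩ := CAlgH3.mem_ass.1 (CAlgH3.mem_ass_of_mem_weakAss_of_fg
      (IsNoetherian.noetherian _) ((SDiv28.isWeakAssPoint_structureModule_iff_affine hW hxW).1 hxw))
  have hs0 : s = 0 := eq_zero_of_germ_eq_zero hV hWU s fun y hy hyV =>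
    (SDiv28.germ_eq_zero_iff hW hy s).2 fun hle =>
      hxV (((specializes_iff hW hxW hy).2 (hs.le.trans hle)).mem_open V.isOpen hyV)
  rw [hs0, CAlgH3.annEl_eq_top.2 rfl] at hs
  exact hp.ne_top hs

include hV in
theorem mem_of_max_of_reduced [IsReduced X] {x : X} (hx : x ∈ U) (hxm : ∀ z : X, z ⤳ x → z = x)
    (hfin : ∀ W : X.Opens, IsAffineOpen W → {y | y ∈ W ∧ ∀ z : X, z ⤳ y → z = y}.Finite) : x ∈ V := by
  classical
  by_contra hxV
  obtain ⟨W, hW, hxW, hWU⟩ := exists_affine hx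
  let G := (hfin W hW).toFinset.erase x
  have hG : ∀ y ∈ G, ∃ hy : y ∈ W, ∃ r ∈ primeAt hW hy, r ∉ primeAt hW hxW := fun y hy => by
    obtain ⟨hne, hy⟩ := Finset.mem_erase.1 hy
    obtain ⟨hyW, -⟩ := (hfin W hW).mem_toFinset.1 hy
    exact ⟨hyW, SetLike.not_le_iff_exists.1 fun hle => hne (hxm y ((specializes_iff hW hyW hxW).2 hle))⟩
  choose! hyW r hr hr' using hG
  haveI : (primeAt hW hxW).IsPrime := (hW.primeIdealOf ⟨x, hxW⟩).2
  let h := ∏ y ∈ G, r y
  have hh : h ∉ primeAt hW hxW := fun hm => by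
    obtain ⟨y, hy, hy'⟩ := (Ideal.IsPrime.prod_mem_iff (p := primeAt hW hxW)).1 hm
    exact hr' y hy hy'
  have h0 : h = 0 := eq_zero_of_germ_eq_zero hV hWU h fun y hy hyV => by
    refine (IsReduced.eq_zero _ ?_)
    rw [nilpotent_iff_mem_prime]
    intro P hP
    haveI := hP
    letI := TopCat.Presheaf.algebra_section_stalk X.presheaf (⟨y, hy⟩ : W)
    haveI := hW.isLocalization_stalk ⟨y, hy⟩
    have hdisj := ((IsLocalization.isPrime_iff_isPrime_disjoint (primeAt hW hy).primeCompl _ P).1 hP).2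
    obtain ⟨q, hq, hqle⟩ := Ideal.exists_minimalPrimes_le
      (bot_le : (⊥ : Ideal Γ(X, W)) ≤ P.comap (algebraMap Γ(X, W) (X.presheaf.stalk y)))
    haveI := hq.1.1
    obtain ⟨z, hz, rfl⟩ := exists_point hW q
    have hzy : z ⤳ y := (specializes_iff hW hz hy).2 fun a ha => by
      by_contra hay
      exact Set.disjoint_left.1 hdisj hay (hqle ha)
    have hzm := (SDiv28.mem_minimalPrimes_iff hW hz).1 hq
    have hzG : z ∈ G := Finset.mem_erase.2
      ⟨fun e => hxV (by rw [← e]; exact hzy.mem_open V.isOpen hyV), (hfin W hW).mem_toFinset.2 ⟨hz, hzm⟩⟩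
    obtain ⟨c, hc⟩ : r z ∣ h := Finset.dvd_prod_of_mem _ hzG
    exact hqle (show h ∈ primeAt hW hz by rw [hc]; exact Ideal.mul_mem_right _ _ (hr z hzG))
  exact hh (h0 ▸ zero_mem _)

/-- A regular denominator supported in `V`. -/
theorem exists_regSub_basicOpen_le (x₀ : X) {W : X.Opens} (hW : IsAffineOpen W)
    (hfin : {y | y ∈ W ∧ y ∈ weakPts X}.Finite) (hmem : ∀ y : X, y ∈ W → y ∈ weakPts X → y ∈ V) :
    ∃ b ∈ Mero.regSub X W, X.basicOpen b ≤ V := by
  classical
  have he : ∀ y ∈ hfin.toFinset, ∃ e : Γ(X, W), X.basicOpen e ≤ V ∧ y ∈ X.basicOpen e := fun y hy => by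
    obtain ⟨hy, hyw⟩ := hfin.mem_toFinset.1 hy
    exact hW.exists_basicOpen_le ⟨y, hmem y hy hyw⟩ hy
  choose! e heV hey using he
  let I : Ideal Γ(X, W) := Ideal.span (e '' hfin.toFinset)
  have hIV : ∀ b ∈ I, X.basicOpen b ≤ V := fun b hb => by
    intro p hp
    by_contra hpV
    have hpW : p ∈ W := X.basicOpen_le b hp
    refine (notMem_primeAt_iff hW hpW b).2 hp (Ideal.span_le.2 ?_ hb)
    rintro _ ⟨y, hy, rfl⟩
    exact (mem_primeAt_iff hW hpW _).2 fun h => hpV (heV y hy h)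
  let q : X → Ideal Γ(X, W) := fun y => if h : y ∈ W then primeAt hW h else ⊥
  have hnot : ¬ (I : Set Γ(X, W)) ⊆ ⋃ y ∈ (↑hfin.toFinset : Set X), q y := by
    rw [Ideal.subset_union_prime x₀ x₀ fun y hy _ _ => ?_]
    · rintro ⟨y, hy, hle⟩
      have hyW := (hfin.mem_toFinset.1 hy).1
      simp only [q, dif_pos hyW] at hle
      exact (notMem_primeAt_iff hW hyW _).2 (hey y hy) (hle (Ideal.subset_span ⟨y, hy, rfl⟩))
    · have hyW := (hfin.mem_toFinset.1 hy).1
      simp only [q, dif_pos hyW]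
      exact (hW.primeIdealOf ⟨y, hyW⟩).2
  obtain ⟨b, hbI, hb⟩ := Set.not_subset.1 hnot
  refine ⟨b, SDiv28.mem_regSub_of_weak hW b fun y hy hyw => ?_, hIV b hbI⟩
  have : b ∉ q y := fun h => hb (Set.mem_biUnion (hfin.mem_toFinset.2 ⟨hy, hyw⟩) h)
  simp only [q, dif_pos hy] at this
  exact (notMem_primeAt_iff hW hy b).1 this

theorem kmod_eq_of_res_eq (hVU : V ≤ U) (hV : ∀ W : X.Opens, W ≤ U →
      Function.Injective ⇑(X.presheaf.map (homOfLE (inf_le_left : W ⊓ V ≤ W)).op))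
    {W : X.Opens} (hWU : W ≤ U) (d : Γ(Mero.kmod X, W))
    (h : ∀ (y : X) (hy : y ∈ W), y ∈ V → d.1 ⟨y, hy⟩ = 0) : d = 0 := by
  refine Subtype.ext (funext fun x => ?_)
  obtain ⟨T, hTW, -, hxT, a, b, w⟩ := exists_fraction d x.2
  have ha : a = 0 := eq_zero_of_germ_eq_zero hV (hTW.trans hWU) a fun y hy hyV =>
    Mero.algebraMap_KStalk_injective y (by rw [map_zero, ← w y hy, h y (hTW hy) hyV, zero_mul])
  have hx := w x.1 hxT
  rw [ha, map_zero, map_zero] at hx
  exact (isUnit_algebraMap_germ b ⟨x.1, hxT⟩).mul_left_eq_zero.1 hx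

/-- Functions on a schematically dense open are meromorphic. -/
theorem exists_extend (hVU : V ≤ U) (hV : ∀ W : X.Opens, W ≤ U →
      Function.Injective ⇑(X.presheaf.map (homOfLE (inf_le_left : W ⊓ V ≤ W)).op))
    (hfin : ∀ W : X.Opens, IsAffineOpen W → {y | y ∈ W ∧ y ∈ weakPts X}.Finite)
    (hmem : ∀ y : X, y ∈ U → y ∈ weakPts X → y ∈ V)
    (g : Γ(X, V)) :
    ∃ s : Γ(Mero.kmod X, U), ∀ (y : X) (hy : y ∈ V), s.1 ⟨y, hVU hy⟩ = algebraMap _ _ (X.presheaf.germ V y hy g) := by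
  have hloc : ∀ x : U, ∃ (W : X.Opens) (_ : W ≤ U) (_ : x.1 ∈ W) (s : Γ(Mero.kmod X, W)),
      ∀ (y : X) (hy : y ∈ W) (hyV : y ∈ V), s.1 ⟨y, hy⟩ = algebraMap _ _ (X.presheaf.germ V y hyV g) := by
    intro x
    obtain ⟨W, hW, hxW, hWU⟩ := exists_affine x.2
    obtain ⟨b, hb, hbV⟩ := exists_regSub_basicOpen_le x.1 hW (hfin W hW) fun y hy => hmem y (hWU hy)
    haveI := hW.isLocalization_basicOpen b
    obtain ⟨⟨r, ⟨_, n, rfl⟩⟩, hr⟩ := IsLocalization.surj (Submonoid.powers b)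
      (X.presheaf.map (homOfLE hbV).op g)
    have key : ∀ (y : X) (hy : y ∈ W) (hyV : y ∈ V),
        X.presheaf.germ W y hy r = X.presheaf.germ V y hyV g * X.presheaf.germ W y hy (b ^ n) := by
      intro y hy hyV
      have h0 : X.presheaf.map (homOfLE (inf_le_left : W ⊓ V ≤ W)).op r -
          X.presheaf.map (homOfLE (inf_le_right : W ⊓ V ≤ V)).op g *
            X.presheaf.map (homOfLE (inf_le_left : W ⊓ V ≤ W)).op (b ^ n) = 0 := by
        refine section_ext fun z hz => ?_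
        rw [map_zero]
        obtain ⟨T, hT, hzT, hTle⟩ := exists_affine hz
        refine (TopCat.Presheaf.germ_res_apply X.presheaf (homOfLE hTle) z hzT _).symm.trans ?_
        refine (congrArg (X.presheaf.germ T z hzT)
          (eq_zero_of_res_basicOpen hT (Mero.regSub_res (homOfLE (hTle.trans inf_le_left)) hb)
          (section_ext fun w hw => ?_))).trans (map_zero _)
        have hwT : w ∈ T := X.basicOpen_le _ hw
        have hwb : w ∈ X.basicOpen b := by rw [Scheme.basicOpen_res] at hw; exact hw.2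
        rw [map_zero, TopCat.Presheaf.germ_res_apply, TopCat.Presheaf.germ_res_apply, map_sub, map_mul,
          TopCat.Presheaf.germ_res_apply, TopCat.Presheaf.germ_res_apply, TopCat.Presheaf.germ_res_apply,
          sub_eq_zero]
        have h2 := congrArg (X.presheaf.germ (X.basicOpen b) w hwb) hr
        rw [map_mul, TopCat.Presheaf.germ_res_apply] at h2
        erw [TopCat.Presheaf.germ_res_apply, TopCat.Presheaf.germ_res_apply] at h2
        exact h2.symm
      have h2 := congrArg (X.presheaf.germ (W ⊓ V) y ⟨hy, hyV⟩) h0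
      rw [map_zero, map_sub, map_mul, TopCat.Presheaf.germ_res_apply, TopCat.Presheaf.germ_res_apply,
        TopCat.Presheaf.germ_res_apply, sub_eq_zero] at h2
      exact h2
    refine ⟨W, hWU, hxW, frac r ⟨b ^ n, pow_mem hb n⟩, fun y hy hyV => ?_⟩
    rw [← (isUnit_algebraMap_germ ⟨b ^ n, pow_mem hb n⟩ ⟨y, hy⟩).mul_left_inj, frac_val_mul, ← map_mul]
    exact congrArg _ (key y hy hyV)
  choose W hWU hxW s hs using hloc
  let F : ∀ x : U, Mero.KStalk X x.1 := fun x => (s x).1 ⟨x.1, hxW x⟩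
  have hF : ∀ (x : U) (y : X) (hy : y ∈ W x), F ⟨y, hWU x hy⟩ = (s x).1 ⟨y, hy⟩ := by
    intro x y hy
    have := kmod_eq_of_res_eq hVU hV
      (show W ⟨y, hWU x hy⟩ ⊓ W x ≤ U from inf_le_left.trans (hWU _))
      ((Mero.kmod X).presheaf.map (homOfLE inf_le_left).op (s ⟨y, hWU x hy⟩) -
        (Mero.kmod X).presheaf.map (homOfLE inf_le_right).op (s x))
      (fun z hz hzV => sub_eq_zero.2 ((hs _ z hz.1 hzV).trans (hs x z hz.2 hzV).symm))
    exact sub_eq_zero.1 (congrArg (fun f : Γ(Mero.kmod X, W ⟨y, hWU x hy⟩ ⊓ W x) => f.1 ⟨y, hxW ⟨y, hWU x hy⟩, hy⟩) this)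
  refine ⟨⟨F, fun x => ?_⟩, fun y hy => hs ⟨y, hVU hy⟩ y _ hy⟩
  obtain ⟨T, hxT, i, a, b, w⟩ := (s x).2 ⟨x.1, hxW x⟩
  exact ⟨T, hxT, i ≫ homOfLE (hWU x), a, b, fun y => (hF x y.1 (i.le y.2)).trans (w y)⟩

end Groth.Agent.MeroLib
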