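import Groth.Agent.MeroLib.OfMero
import Groth.Agent.MeroLib.Extend
import Mathlib

/-!
# Regular meromorphic sections when the associated points lie in an affine open
-/

set_option autoImplicit false
set_option backward.isDefEq.respectTransparency.types false
universe u

open CategoryTheory AlgebraicGeometry Opposite TopologicalSpace
open Groth.Agent.AssSch12 Groth.Agent.Coherent Groth.Agent.PicLib

namespace Groth.Agent.MeroLib

variable {X : Scheme.{u}} {L : X.Modules}

/-- A section generating at finitely many given points of an affine open. -/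
theorem exists_generator_at {W : X.Opens} (hW : IsAffineOpen W) (hL : PicF.IsInvertible L)
    (G : Finset X) (hG : ∀ y ∈ G, y ∈ W) :
    ∃ t : Γ(L, W), ∀ (y : X) (hy : y ∈ G),
      Function.Bijective (fun r : X.presheaf.stalk y => r • L.presheaf.germ W y (hG y hy) t) := by
  classical
  haveI : L.IsQuasicoherent := AmpleLib.isQCoh_of_isInvertible hL
  let G' := G.filter fun y => ∀ z ∈ G, y ⤳ z → z = y
  have hsec : ∀ y ∈ G', ∃ hy : y ∈ W, ∃ (r : Γ(X, W)) (t : Γ(L, W)), y ∈ X.basicOpen r ∧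
      (∀ z ∈ G', z ≠ y → z ∉ X.basicOpen r) ∧
      Function.Bijective (fun c : X.presheaf.stalk y => c • L.presheaf.germ W y hy t) := by
    intro y hy
    obtain ⟨hyG, hymax⟩ := Finset.mem_filter.1 hy
    have hyW := hG y hyG
    refine ⟨hyW, ?_⟩
    obtain ⟨T, hyT, g, hg⟩ := exists_isGen hL y
    obtain ⟨f, m, hf, hm⟩ := QCohLoc.exists_smul_stalk_eq_germ L hW hyW (L.presheaf.germ T y hyT g)
    have hsep : ∀ z ∈ G'.erase y, ∃ hz : z ∈ W, ∃ r ∈ primeAt hW hz, r ∉ primeAt hW hyW := fun z hz => by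
      obtain ⟨hne, hz⟩ := Finset.mem_erase.1 hz
      obtain ⟨hzG, hzmax⟩ := Finset.mem_filter.1 hz
      exact ⟨hG z hzG, SetLike.not_le_iff_exists.1 fun hle =>
        hne (hzmax y hyG ((specializes_iff hW (hG z hzG) hyW).2 hle)).symm⟩
    choose! hzW r hr hr' using hsep
    refine ⟨∏ z ∈ G'.erase y, r z, m, ?_, fun z hz hne => ?_, ?_⟩
    · haveI : (primeAt hW hyW).IsPrime := (hW.primeIdealOf ⟨y, hyW⟩).2
      refine (notMem_primeAt_iff hW hyW _).1 fun hmem => ?_
      obtain ⟨z, hz, hzr⟩ := (Ideal.IsPrime.prod_mem_iff (p := primeAt hW hyW)).1 hmem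
      exact hr' z hz hzr
    · have hz' : z ∈ G'.erase y := Finset.mem_erase.2 ⟨hne, hz⟩
      obtain ⟨c, hc⟩ : r z ∣ ∏ z ∈ G'.erase y, r z := Finset.dvd_prod_of_mem _ hz'
      refine (mem_primeAt_iff hW (hzW z hz') _).1 ?_
      rw [hc]
      exact Ideal.mul_mem_right _ _ (hr z hz')
    · have hu : IsUnit (X.presheaf.germ W y hyW f) := (X.mem_basicOpen f y hyW).1 hf
      rw [show (fun c : X.presheaf.stalk y => c • L.presheaf.germ W y hyW m) =
        (fun c => c • L.presheaf.germ T y hyT g) ∘ (fun c => c * X.presheaf.germ W y hyW f) from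
          funext fun c => by simp only [Function.comp_apply, mul_smul, hm]]
      exact (SDiv28.bijective_smul_germ_gen hg hyT).comp
        (by obtain ⟨v, hv⟩ := hu; rw [← hv]; exact Units.mulRight_bijective v)
  choose! hyW r t hr hr' ht using hsec
  refine ⟨∑ y ∈ G', r y • t y, fun z hzG => ?_⟩
  have hex : ∃ y ∈ G', z ⤳ y := by
    let H := G.filter fun w => z ⤳ w
    obtain ⟨y, hy, hmin⟩ := H.exists_min_image (fun w => (G.filter fun v => w ⤳ v).card)
      ⟨z, Finset.mem_filter.2 ⟨hzG, specializes_rfl⟩⟩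
    obtain ⟨hyG, hzy⟩ := Finset.mem_filter.1 hy
    refine ⟨y, Finset.mem_filter.2 ⟨hyG, fun w hwG hyw => ?_⟩, hzy⟩
    by_contra hne
    refine absurd (hmin w (Finset.mem_filter.2 ⟨hwG, hzy.trans hyw⟩)) (not_le.2 (Finset.card_lt_card ?_))
    refine (Finset.ssubset_iff_of_subset fun v hv => ?_).2 ⟨y, Finset.mem_filter.2 ⟨hyG, specializes_rfl⟩, ?_⟩
    · exact Finset.mem_filter.2 ⟨(Finset.mem_filter.1 hv).1, hyw.trans (Finset.mem_filter.1 hv).2⟩
    · exact fun h => hne ((Finset.mem_filter.1 h).2.antisymm hyw).eq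
  obtain ⟨y, hy, hzy⟩ := hex
  obtain ⟨T, hyT, g, hg⟩ := exists_isGen hL y
  let S := hg.coef (inf_le_right : W ⊓ T ≤ T) (resM L inf_le_left (∑ y ∈ G', r y • t y))
  have hS : ∀ (w : X) (hw : w ∈ W) (hwT : w ∈ T),
      X.presheaf.germ (W ⊓ T) w ⟨hw, hwT⟩ S • L.presheaf.germ T w hwT g =
        L.presheaf.germ W w hw (∑ y ∈ G', r y • t y) := fun w hw hwT => by
    have h1 := congrArg (L.presheaf.germ (W ⊓ T) w ⟨hw, hwT⟩)
      (hg.coef_spec (inf_le_right : W ⊓ T ≤ T) (resM L inf_le_left (∑ y ∈ G', r y • t y)))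
    rw [QCohLoc.germ_smul', TopCat.Presheaf.germ_res_apply, TopCat.Presheaf.germ_res_apply] at h1
    exact h1
  have hSu : IsUnit (X.presheaf.germ (W ⊓ T) y ⟨hyW y hy, hyT⟩ S) := by
    let γ := fun i => (SDiv28.bijective_smul_germ_gen hg hyT).2 (L.presheaf.germ W y (hyW y hy) (t i))
    choose c hc using γ
    have hsum : X.presheaf.germ (W ⊓ T) y ⟨hyW y hy, hyT⟩ S =
        ∑ i ∈ G', X.presheaf.germ W y (hyW y hy) (r i) * c i := by
      refine (SDiv28.bijective_smul_germ_gen hg hyT).1 ?_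
      dsimp only at hc ⊢
      rw [hS, map_sum, Finset.sum_smul]
      refine Finset.sum_congr rfl fun i _ => ?_
      rw [QCohLoc.germ_smul', mul_smul]
      rw [hc i]
    rw [hsum, ← Finset.add_sum_erase _ _ hy]
    have hcu : IsUnit (c y) := by
      obtain ⟨d, hd⟩ := (ht y hy).2 (L.presheaf.germ T y hyT g)
      refine IsUnit.of_mul_eq_one d ((SDiv28.bijective_smul_germ_gen hg hyT).1 ?_)
      dsimp only at hc hd ⊢
      rw [mul_comm, mul_smul, one_smul, hc y, hd]
    have hnu : ∀ i ∈ G'.erase y, X.presheaf.germ W y (hyW y hy) (r i) * c i ∈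
        IsLocalRing.maximalIdeal (X.presheaf.stalk y) := fun i hi => by
      obtain ⟨hne, hi⟩ := Finset.mem_erase.1 hi
      exact Ideal.mul_mem_right _ _ fun hu =>
        hr' i hi y hy (Ne.symm hne) ((X.mem_basicOpen _ y (hyW y hy)).2 hu)
    by_contra hnon
    have hsmem : (∑ i ∈ G'.erase y, X.presheaf.germ W y (hyW y hy) (r i) * c i) ∈
        IsLocalRing.maximalIdeal (X.presheaf.stalk y) := sum_mem hnu
    have := (IsLocalRing.maximalIdeal (X.presheaf.stalk y)).sub_mem
      ((IsLocalRing.mem_maximalIdeal _).2 hnon) hsmem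
    rw [add_sub_cancel_right] at this
    exact (IsLocalRing.mem_maximalIdeal _).1 this (((X.mem_basicOpen _ y (hyW y hy)).1 (hr y hy)).mul hcu)
  have hzW := hG z hzG
  have hzT : z ∈ T := hzy.mem_open T.isOpen hyT
  have hzu : IsUnit (X.presheaf.germ (W ⊓ T) z ⟨hzW, hzT⟩ S) :=
    (X.mem_basicOpen S z ⟨hzW, hzT⟩).1
      (hzy.mem_open (X.basicOpen S).isOpen ((X.mem_basicOpen S y ⟨hyW y hy, hyT⟩).2 hSu))
  obtain ⟨v, hv⟩ := hzu
  rw [show (fun c : X.presheaf.stalk z => c • L.presheaf.germ W z hzW (∑ y ∈ G', r y • t y)) =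
    (fun c => c • L.presheaf.germ T z hzT g) ∘ (fun c => c * (v : X.presheaf.stalk z)) from
      funext fun c => by simp only [Function.comp_apply, hv, mul_smul]; rw [hS z hzW hzT]]
  exact (SDiv28.bijective_smul_germ_gen hg hzT).comp (Units.mulRight_bijective v)

theorem exists_divisor_of_weakPts_subset_affine {W : X.Opens} (hW : IsAffineOpen W)
    (hsub : weakPts X ⊆ W) (hfin : ∀ T : X.Opens, IsAffineOpen T → {y | y ∈ T ∧ y ∈ weakPts X}.Finite)
    (hL : PicF.IsInvertible L) : ∃ D : Mero.Divisor X, Nonempty (L ≅ Mero.divMod D) := by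
  classical
  obtain ⟨t, ht⟩ := exists_generator_at hW hL (hfin W hW).toFinset fun y hy => ((hfin W hW).mem_toFinset.1 hy).1
  have hloc : ∀ x : X, ∃ (T : X.Opens) (_ : x ∈ T) (g : Γ(L, T)) (_ : IsGen L T g) (a b : Mero.regSub X T),
      ∀ (y : X) (hy : y ∈ T) (hyw : y ∈ weakPts X),
        X.presheaf.germ T y hy b.1 • L.presheaf.germ W y (hsub hyw) t =
          X.presheaf.germ T y hy a.1 • L.presheaf.germ T y hy g := by
    intro x
    obtain ⟨U, hxU, g, hg⟩ := exists_isGen hL x
    obtain ⟨T, hT, hxT, hTU⟩ := exists_affine hxU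
    obtain ⟨b, hb, hbW⟩ := exists_regSub_basicOpen_le x hT (hfin T hT)
      (fun y _ hyw => show y ∈ W from hsub hyw)
    haveI := hT.isLocalization_basicOpen b
    obtain ⟨⟨a, ⟨_, n, rfl⟩⟩, ha⟩ := IsLocalization.surj (Submonoid.powers b)
      (hg.coef ((X.basicOpen_le b).trans hTU) (resM L hbW t))
    have hbw : ∀ (y : X), y ∈ T → y ∈ weakPts X → y ∈ X.basicOpen b := fun y hy hyw =>
      (X.mem_basicOpen b y hy).2 (isUnit_of_regular_of_assoc
        ((SDiv28.isWeakAssPoint_structureModule_iff y).1 hyw) (hb ⟨y, hy⟩))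
    have key : ∀ (y : X) (hy : y ∈ T) (hyw : y ∈ weakPts X),
        X.presheaf.germ T y hy (b ^ n) • L.presheaf.germ W y (hsub hyw) t =
          X.presheaf.germ T y hy a • L.presheaf.germ T y hy (resM L hTU g) := fun y hy hyw => by
      have hyb := hbw y hy hyw
      have h1 := congrArg (L.presheaf.germ (X.basicOpen b) y hyb)
        (hg.coef_spec ((X.basicOpen_le b).trans hTU) (resM L hbW t))
      rw [QCohLoc.germ_smul', TopCat.Presheaf.germ_res_apply, TopCat.Presheaf.germ_res_apply] at h1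
      have h2 := congrArg (X.presheaf.germ (X.basicOpen b) y hyb) ha
      rw [map_mul] at h2
      erw [TopCat.Presheaf.germ_res_apply, TopCat.Presheaf.germ_res_apply] at h2
      dsimp only at h2
      rw [← h2, TopCat.Presheaf.germ_res_apply, ← h1, ← mul_smul]
      exact congrArg (· • _) (mul_comm _ _)
    have har : a ∈ Mero.regSub X T := by
      refine SDiv28.mem_regSub_of_weak hT a fun y hy hyw => (X.mem_basicOpen a y hy).2 ?_
      obtain ⟨c, hc⟩ := (ht y ((hfin W hW).mem_toFinset.2 ⟨hsub hyw, hyw⟩)).2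
        (L.presheaf.germ T y hy (resM L hTU g))
      dsimp only at hc
      have hu : IsUnit (X.presheaf.germ T y hy (b ^ n)) := by
        rw [map_pow]; exact ((X.mem_basicOpen b y hy).1 (hbw y hy hyw)).pow n
      have h3 := key y hy hyw
      rw [← hc, ← mul_smul] at h3
      exact isUnit_of_mul_isUnit_left ((((ht y ((hfin W hW).mem_toFinset.2 ⟨hsub hyw, hyw⟩)).1 h3).symm : _) ▸ hu)
    exact ⟨T, hxT, resM L hTU g, hg.restrict hTU, ⟨a, har⟩, ⟨b ^ n, pow_mem hb n⟩, key⟩
  choose T hxT g hg a b hab using hloc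
  refine exists_divisor_of_charts T hxT g hg a b fun i j y hi hj c h => ?_
  obtain ⟨V, hyV, c₀, rfl⟩ := X.presheaf.exists_germ_eq c
  have h0 : L.presheaf.germ (V ⊓ (T i ⊓ T j)) y ⟨hyV, hi, hj⟩ (resM L (inf_le_right.trans inf_le_left) (g i)) =
      L.presheaf.germ (V ⊓ (T i ⊓ T j)) y ⟨hyV, hi, hj⟩
        (res (inf_le_left : V ⊓ (T i ⊓ T j) ≤ V) c₀ • resM L (inf_le_right.trans inf_le_right) (g j)) := by
    rw [QCohLoc.germ_smul', TopCat.Presheaf.germ_res_apply, TopCat.Presheaf.germ_res_apply,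
      TopCat.Presheaf.germ_res_apply]
    exact h
  obtain ⟨N, hyN, p, q, hN⟩ := TopCat.Presheaf.germ_eq L.presheaf y _ _ _ _ h0
  obtain ⟨N', hN', hyN', hle⟩ := exists_affine hyN
  have hV : N' ≤ V := hle.trans (p.le.trans inf_le_left)
  have hTi : N' ≤ T i := hle.trans (p.le.trans (inf_le_right.trans inf_le_left))
  have hTj : N' ≤ T j := hle.trans (p.le.trans (inf_le_right.trans inf_le_right))
  have hz := SDiv28.germ_eq_zero_of_weak hN'
    (res hTj (a j).1 * res hTi (b i).1 - res hV c₀ * (res hTi (a i).1 * res hTj (b j).1))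
    (fun w hw hww => by
      simp only [map_sub, map_mul, TopCat.Presheaf.germ_res_apply, sub_eq_zero]
      have hgw := congrArg (L.presheaf.germ N w (hle hw)) hN
      rw [TopCat.Presheaf.germ_res_apply, TopCat.Presheaf.germ_res_apply, TopCat.Presheaf.germ_res_apply,
        QCohLoc.germ_smul', TopCat.Presheaf.germ_res_apply, TopCat.Presheaf.germ_res_apply] at hgw
      have hi' := hab i w (hTi hw) hww
      have hj' := hab j w (hTj hw) hww
      rw [hgw, ← mul_smul] at hi'
      refine (SDiv28.bijective_smul_germ_gen (hg j) (hTj hw)).1 ?_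
      dsimp only
      rw [mul_comm, mul_smul, ← hj', ← mul_assoc, mul_comm (X.presheaf.germ V w _ c₀), mul_comm (_ * _),
        mul_smul, ← hi', ← mul_smul, ← mul_smul, mul_comm])
    hyN'
  simp only [map_sub, map_mul, TopCat.Presheaf.germ_res_apply, sub_eq_zero] at hz
  exact hz

end Groth.Agent.MeroLib
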