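import Groth.Agent.SDiv28.MeroReg
import Groth.Agent.Coherent.QcohOps
import Groth.Agent.PicLib.Invertible
import Groth.Prelude.Def_MeroDiv
import Mathlib

/-!
# Meromorphic functions and divisors: local fractions
-/

set_option autoImplicit false
set_option backward.isDefEq.respectTransparency.types false
universe u

open CategoryTheory AlgebraicGeometry Opposite TopologicalSpace
open Groth.Agent.AssSch12

namespace Groth.Agent.MeroLib

variable {X : Scheme.{u}}

/-- A nonzerodivisor on an affine open is a regular section. -/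
theorem regSub_eq_of_isAffineOpen {U : X.Opens} (hU : IsAffineOpen U) :
    Mero.regSub X U = nonZeroDivisors Γ(X, U) := by
  refine le_antisymm (fun a ha => SDiv28.mem_nonZeroDivisors_of_regSub ha) fun a ha x => ?_
  letI := TopCat.Presheaf.algebra_section_stalk X.presheaf x
  haveI := hU.isLocalization_stalk x
  exact IsLocalization.map_nonZeroDivisors_le (hU.primeIdealOf x).asIdeal.primeCompl _
    (Submonoid.mem_map_of_mem _ ha)

theorem section_ext {U : X.Opens} {s t : Γ(X, U)}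
    (h : ∀ (x : X) (hx : x ∈ U), X.presheaf.germ U x hx s = X.presheaf.germ U x hx t) : s = t :=
  TopCat.Presheaf.section_ext X.sheaf _ _ _ h

theorem exists_affine {x : X} {V : X.Opens} (hx : x ∈ V) :
    ∃ W : X.Opens, IsAffineOpen W ∧ x ∈ W ∧ W ≤ V := by
  obtain ⟨_, ⟨W, hW, rfl⟩, hxW, hWV⟩ := X.isBasis_affineOpens.exists_subset_of_mem_open hx V.isOpen
  exact ⟨W, hW, hxW, hWV⟩

/-! ### fractions in the stalks of `K_X` -/

theorem algebraMap_eq_mk {y : X} (a : X.presheaf.stalk y) :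
    algebraMap (X.presheaf.stalk y) (Mero.KStalk X y) a = LocalizedModule.mk a 1 :=
  (Localization.mk_one_eq_algebraMap a).symm

theorem mk_mul_algebraMap {y : X} (a : X.presheaf.stalk y) (b : Mero.regStalk X y) :
    (LocalizedModule.mk a b : Mero.KStalk X y) * algebraMap _ _ (b : X.presheaf.stalk y) =
      algebraMap _ _ a := by
  rw [algebraMap_eq_mk, algebraMap_eq_mk]
  refine LocalizedModule.mk_mul_mk.trans (LocalizedModule.mk_eq.2 ⟨1, ?_⟩)
  simp only [Submonoid.smul_def, smul_eq_mul, one_mul, mul_one, Submonoid.coe_one]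
  ring

theorem mk_eq_algebraMap_iff {y : X} (a c : X.presheaf.stalk y) (b : Mero.regStalk X y) :
    (LocalizedModule.mk a b : Mero.KStalk X y) = algebraMap _ _ c ↔ a = c * b := by
  rw [← (Mero.algebraMap_KStalk_injective y).eq_iff (a := a), map_mul,
    ← (IsLocalization.map_units (Mero.KStalk X y) b).mul_left_inj, mk_mul_algebraMap]

@[simp] theorem toK_val {U : X.Opens} (r : Γ(X, U)) (x : U) :
    (Mero.toK X U r).1 x = algebraMap _ _ (X.presheaf.germ U x.1 x.2 r) :=
  (algebraMap_eq_mk _).symm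

@[simp] theorem map_val {U V : X.Opens} (i : V ⟶ U) (f : Γ(Mero.kmod X, U)) (x : V) :
    ((Mero.kmod X).presheaf.map i.op f).1 x = f.1 ⟨x.1, i.le x.2⟩ := rfl

theorem toK_injective (U : X.Opens) : Function.Injective (Mero.toK X U) := by
  intro r r' h
  refine TopCat.Presheaf.section_ext X.sheaf _ _ _ fun x hx => ?_
  have := congrArg (fun f : Γ(Mero.kmod X, U) => f.1 ⟨x, hx⟩) h
  simp only [toK_val] at this
  exact Mero.algebraMap_KStalk_injective x this

/-- Every section of `K_X` is a fraction on a small affine neighbourhood. -/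
theorem exists_fraction {U : X.Opens} (f : Γ(Mero.kmod X, U)) {x : X} (hx : x ∈ U) :
    ∃ (W : X.Opens) (hWU : W ≤ U) (_ : IsAffineOpen W) (_ : x ∈ W) (a : Γ(X, W)) (b : Mero.regSub X W),
      ∀ (y : X) (hy : y ∈ W), f.1 ⟨y, hWU hy⟩ * algebraMap _ _ (X.presheaf.germ W y hy b.1) =
        algebraMap _ _ (X.presheaf.germ W y hy a) := by
  obtain ⟨V, hxV, i, a, b, w⟩ := f.2 ⟨x, hx⟩
  obtain ⟨W, hW, hxW, hWV⟩ := exists_affine (show x ∈ V from hxV)
  refine ⟨W, hWV.trans i.le, hW, hxW, X.presheaf.map (homOfLE hWV).op a,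
    ⟨X.presheaf.map (homOfLE hWV).op b.1, Mero.regSub_res _ b.2⟩, fun y hy => ?_⟩
  rw [TopCat.Presheaf.germ_res_apply, TopCat.Presheaf.germ_res_apply]
  have := w ⟨y, hWV hy⟩
  dsimp only at this
  rw [show f.1 ⟨y, (hWV.trans i.le) hy⟩ = _ from this]
  exact mk_mul_algebraMap _ (Mero.regGerm ⟨y, hWV hy⟩ b)

/-- If a fraction is defined at `x` then it is defined near `x`. -/
theorem exists_toK_near {U : X.Opens} (f : Γ(Mero.kmod X, U)) {x : X} (hx : x ∈ U)
    (h : f.1 ⟨x, hx⟩ ∈ (algebraMap (X.presheaf.stalk x) (Mero.KStalk X x)).range) :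
    ∃ (W : X.Opens) (hWU : W ≤ U) (_ : x ∈ W) (r : Γ(X, W)),
      ∀ (y : X) (hy : y ∈ W), f.1 ⟨y, hWU hy⟩ = algebraMap _ _ (X.presheaf.germ W y hy r) := by
  obtain ⟨W, hWU, hW, hxW, a, b, w⟩ := exists_fraction f hx
  obtain ⟨c, hc⟩ := h
  obtain ⟨V, hxV, r₀, rfl⟩ := X.presheaf.exists_germ_eq c
  have hA : X.presheaf.germ (V ⊓ W) x ⟨hxV, hxW⟩ (X.presheaf.map (homOfLE inf_le_left).op r₀ *
      X.presheaf.map (homOfLE inf_le_right).op b.1) =
      X.presheaf.germ (V ⊓ W) x ⟨hxV, hxW⟩ (X.presheaf.map (homOfLE inf_le_right).op a) := by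
    rw [map_mul, TopCat.Presheaf.germ_res_apply, TopCat.Presheaf.germ_res_apply,
      TopCat.Presheaf.germ_res_apply]
    refine Mero.algebraMap_KStalk_injective x ?_
    rw [map_mul, hc, w x hxW]
  obtain ⟨T, hxT, i, j, hT⟩ := TopCat.Presheaf.germ_eq X.presheaf x _ _ _ _ hA
  refine ⟨T, (i.le.trans inf_le_right).trans hWU, hxT, X.presheaf.map (i ≫ homOfLE inf_le_left).op r₀,
    fun y hy => ?_⟩
  have hb : IsUnit (algebraMap (X.presheaf.stalk y) (Mero.KStalk X y)
      (X.presheaf.germ W y (inf_le_right (a := V) (i.le hy)) b.1)) :=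
    IsLocalization.map_units _ (Mero.regGerm ⟨y, inf_le_right (a := V) (i.le hy)⟩ b)
  rw [← hb.mul_left_inj]
  refine (w y _).trans ?_
  rw [← map_mul]
  congr 1
  have h2 := congrArg (X.presheaf.germ T y hy) hT
  simp only [TopCat.Presheaf.germ_res_apply, map_mul] at h2
  rw [TopCat.Presheaf.germ_res_apply]
  exact h2.symm

/-- A section of `K_X` with all values in the local rings is a function. -/
theorem exists_toK_eq {U : X.Opens} (f : Γ(Mero.kmod X, U))
    (h : ∀ x : U, f.1 x ∈ (algebraMap (X.presheaf.stalk x.1) (Mero.KStalk X x.1)).range) :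
    ∃ r : Γ(X, U), Mero.toK X U r = f := by
  choose W hWU hxW r hr using fun x : U => exists_toK_near f x.2 (h x)
  have hcomp : TopCat.Presheaf.IsCompatible X.presheaf W r := by
    intro p q
    refine TopCat.Presheaf.section_ext X.sheaf _ _ _ fun y hy => Mero.algebraMap_KStalk_injective y ?_
    erw [TopCat.Presheaf.germ_res_apply, TopCat.Presheaf.germ_res_apply]
    exact (hr p y hy.1).symm.trans (hr q y hy.2)
  obtain ⟨s, hs, -⟩ := X.sheaf.existsUnique_gluing' W U (fun x => homOfLE (hWU x))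
    (fun x hx => TopologicalSpace.Opens.mem_iSup.2 ⟨⟨x, hx⟩, hxW ⟨x, hx⟩⟩) r hcomp
  refine ⟨s, Subtype.ext (funext fun x => ?_)⟩
  rw [toK_val]
  refine Eq.trans ?_ (hr x x.1 (hxW x)).symm
  rw [← hs x]
  exact congrArg _ (TopCat.Presheaf.germ_res_apply X.presheaf _ _ _ s).symm

/-- A regular function killing a function on a dense locus. -/
theorem eq_zero_of_res_basicOpen {W : X.Opens} (hW : IsAffineOpen W) {b s : Γ(X, W)}
    (hb : b ∈ Mero.regSub X W) (h : X.presheaf.map (homOfLE (X.basicOpen_le b)).op s = 0) : s = 0 := by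
  haveI := hW.isLocalization_basicOpen b
  obtain ⟨⟨_, n, rfl⟩, hn⟩ := (IsLocalization.map_eq_zero_iff (Submonoid.powers b)
    Γ(X, X.basicOpen b) s).1 h
  exact mem_nonZeroDivisors_iff.1 (pow_mem (SDiv28.mem_nonZeroDivisors_of_regSub hb) n) |>.1 s hn

/-! ### fractions as sections -/

/-- The section `a / b` of `K_X`. -/
noncomputable def frac {U : X.Opens} (a : Γ(X, U)) (b : Mero.regSub X U) : Γ(Mero.kmod X, U) :=
  ⟨fun x => LocalizedModule.mk (X.presheaf.germ U x.1 x.2 a) (Mero.regGerm x b),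
    fun x => ⟨U, x.2, 𝟙 _, a, b, fun _ => rfl⟩⟩

theorem frac_val_mul {U : X.Opens} (a : Γ(X, U)) (b : Mero.regSub X U) (x : U) :
    (frac a b).1 x * algebraMap _ _ (X.presheaf.germ U x.1 x.2 b.1) =
      algebraMap _ _ (X.presheaf.germ U x.1 x.2 a) :=
  mk_mul_algebraMap _ (Mero.regGerm x b)

theorem isUnit_algebraMap_germ {U : X.Opens} (b : Mero.regSub X U) (x : U) :
    IsUnit (algebraMap (X.presheaf.stalk x.1) (Mero.KStalk X x.1) (X.presheaf.germ U x.1 x.2 b.1)) :=
  IsLocalization.map_units _ (Mero.regGerm x b)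

theorem frac_mul_frac {U : X.Opens} (a b : Mero.regSub X U) : frac a.1 b * frac b.1 a = 1 := by
  refine Subtype.ext (funext fun x => ?_)
  show (frac a.1 b).1 x * (frac b.1 a).1 x = 1
  exact LocalizedModule.mk_mul_mk.trans ((Mero.mk_congr (mul_comm _ _) rfl).trans
    (Mero.mk_self_eq_one (Mero.regGerm x b * Mero.regGerm x a)))

/-- The unit `a / b` of `K_X`, both regular. -/
noncomputable def fracUnit {U : X.Opens} (a b : Mero.regSub X U) : (Γ(Mero.kmod X, U))ˣ :=
  ⟨frac a.1 b, frac b.1 a, frac_mul_frac a b, frac_mul_frac b a⟩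

/-- A pointwise regular section of `K_X` is locally a quotient of regular functions. -/
theorem exists_regular_fraction {U : X.Opens} (f : Γ(Mero.kmod X, U))
    (hf : ∀ (x : U) (r : X.presheaf.stalk x.1), algebraMap _ _ r * f.1 x = 0 → r = 0) {x : X} (hx : x ∈ U) :
    ∃ (W : X.Opens) (hWU : W ≤ U) (_ : IsAffineOpen W) (_ : x ∈ W) (a b : Mero.regSub X W),
      ∀ (y : X) (hy : y ∈ W), f.1 ⟨y, hWU hy⟩ = (fracUnit a b : Γ(Mero.kmod X, W)).1 ⟨y, hy⟩ := by
  obtain ⟨W, hWU, hW, hxW, a, b, w⟩ := exists_fraction f hx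
  have ha : a ∈ Mero.regSub X W := fun y => by
    rw [mem_nonZeroDivisors_iff_right]
    intro r hr
    refine hf ⟨y.1, hWU y.2⟩ r ((isUnit_algebraMap_germ b y).mul_left_eq_zero.1 ?_)
    rw [mul_assoc, w y.1 y.2, ← map_mul, hr, map_zero]
  refine ⟨W, hWU, hW, hxW, ⟨a, ha⟩, b, fun y hy => ?_⟩
  rw [← (isUnit_algebraMap_germ b ⟨y, hy⟩).mul_left_inj]
  exact (w y hy).trans (frac_val_mul a b ⟨y, hy⟩).symm

theorem isUnit_of_pointwise {U : X.Opens} (f : Γ(Mero.kmod X, U))
    (hf : ∀ (x : U) (r : X.presheaf.stalk x.1), algebraMap _ _ r * f.1 x = 0 → r = 0) : IsUnit f := by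
  have hu : ∀ x : U, IsUnit (f.1 x) := fun x => by
    obtain ⟨W, hWU, hW, hxW, a, b, w⟩ := exists_regular_fraction f hf x.2
    rw [show f.1 x = _ from w x.1 hxW]
    exact ((fracUnit a b).isUnit).map (Mero.evalK X W ⟨x.1, hxW⟩)
  choose W hWU hW hxW a b w using fun x : U => exists_regular_fraction f hf x.2
  refine IsUnit.of_mul_eq_one (⟨fun x => Ring.inverse (f.1 x), fun x => ⟨W x, hxW x, homOfLE (hWU x),
    (b x).1, a x, fun y => ?_⟩⟩ : Γ(Mero.kmod X, U)) (Subtype.ext (funext fun x => Ring.mul_inverse_cancel _ (hu x)))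
  show Ring.inverse (f.1 ⟨y.1, hWU x y.2⟩) = (frac (b x).1 (a x)).1 y
  refine (hu ⟨y.1, hWU x y.2⟩).mul_right_inj.1 ?_
  rw [Ring.mul_inverse_cancel _ (hu ⟨y.1, hWU x y.2⟩), w x y.1 y.2]
  exact (congrArg (fun g : Γ(Mero.kmod X, W x) => g.1 y) (frac_mul_frac (a x) (b x))).symm

/-! ### divisors -/

/-- A divisor is locally the class of `a / b` with `a`, `b` regular. -/
theorem exists_divisor_fraction (D : Mero.Divisor X) (x : X) :
    ∃ (W : X.Opens) (_ : IsAffineOpen W) (_ : x ∈ W) (a b : Mero.regSub X W),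
      ∀ (y : X) (hy : y ∈ W), D.1 y = Mero.germOf (fracUnit a b) ⟨y, hy⟩ := by
  obtain ⟨U, hxU, f, hf⟩ := D.2 x
  obtain ⟨W, hWU, hW, hxW, a, b, w⟩ := exists_regular_fraction (f : Γ(Mero.kmod X, U)) (fun y r hr => by
    refine Mero.algebraMap_KStalk_injective y.1 ((((f.isUnit).map (Mero.evalK X U y)).mul_left_eq_zero.1 hr).trans
      (map_zero _).symm)) hxU
  exact ⟨W, hW, hxW, a, b, fun y hy => (hf ⟨y, hWU hy⟩).trans
    (congrArg _ (Units.ext (w y hy)))⟩

theorem mk_eq_mk_iff {y : X} (g g' : (Mero.KStalk X y)ˣ) :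
    (QuotientGroup.mk g : Mero.Germ X y) = QuotientGroup.mk g' ↔
      ∃ u : (X.presheaf.stalk y)ˣ, (g' : Mero.KStalk X y) = g * algebraMap _ _ (u : X.presheaf.stalk y) := by
  rw [QuotientGroup.eq]
  constructor
  · rintro ⟨u, hu⟩
    refine ⟨u, ?_⟩
    have := congrArg Units.val (congrArg (g * ·) hu)
    simpa using this.symm
  · rintro ⟨u, hu⟩
    exact ⟨u, Units.ext (by simp [hu])⟩

theorem divCond_iff (D : Mero.Divisor X) {y : X} {g : (Mero.KStalk X y)ˣ} (hg : D.1 y = QuotientGroup.mk g)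
    (t : Mero.KStalk X y) :
    Mero.DivCond D y t ↔ t * g ∈ (algebraMap (X.presheaf.stalk y) (Mero.KStalk X y)).range := by
  refine ⟨fun h => h g hg, fun h g' hg' => ?_⟩
  obtain ⟨u, hu⟩ := (mk_eq_mk_iff g g').1 (hg.symm.trans hg')
  rw [hu, ← mul_assoc]
  exact mul_mem h ⟨_, rfl⟩

theorem germ_eq_one_of_isUnit {y : X} {g : (Mero.KStalk X y)ˣ} {r : X.presheaf.stalk y} (hr : IsUnit r)
    (h : (g : Mero.KStalk X y) = algebraMap _ _ r) : (QuotientGroup.mk g : Mero.Germ X y) = 1 :=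
  (QuotientGroup.eq_one_iff g).2 ⟨hr.unit, Units.ext h.symm⟩

theorem germ_eq_one_iff_fracUnit {W : X.Opens} (a b : Mero.regSub X W) (y : W) :
    Mero.germOf (fracUnit a b) y = 1 ↔
      ∃ u : (X.presheaf.stalk y.1)ˣ, X.presheaf.germ W y.1 y.2 a.1 = u * X.presheaf.germ W y.1 y.2 b.1 := by
  rw [eq_comm]
  refine (mk_eq_mk_iff 1 _).trans (exists_congr fun u => ?_)
  rw [← (Mero.algebraMap_KStalk_injective y.1).eq_iff (a := X.presheaf.germ W y.1 y.2 a.1), map_mul,
    Units.val_one, one_mul]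
  show (frac a.1 b).1 y = _ ↔ _
  rw [← (isUnit_algebraMap_germ b y).mul_left_inj, frac_val_mul]

end Groth.Agent.MeroLib
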