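import Groth.Agent.MeroLib.Noeth
import Groth.Agent.CAlgH3.Depth
import Groth.Agent.SDiv28.SchDenseAss
import Mathlib

/-!
# Effectivity of divisors and depth one
-/

set_option autoImplicit false
set_option backward.isDefEq.respectTransparency.types false
universe u

open CategoryTheory AlgebraicGeometry Opposite TopologicalSpace
open Groth.Agent.AssSch12
open Groth.Agent.CAlgH3 (annEl mem_annEl)
open scoped Pointwise

namespace Groth.Agent.MeroLib

variable {X : Scheme.{u}}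

theorem isEffectiveAt_iff (D : Mero.Divisor X) {W : X.Opens} (a b : Mero.regSub X W)
    (hD : ∀ (y : X) (hy : y ∈ W), D.1 y = Mero.germOf (fracUnit a b) ⟨y, hy⟩) {x : X} (hx : x ∈ W) :
    Mero.IsEffectiveAt D x ↔ ∃ c, X.presheaf.germ W x hx a.1 = c * X.presheaf.germ W x hx b.1 := by
  constructor
  · rintro ⟨c, hc⟩
    obtain ⟨u, hu⟩ := (mk_eq_mk_iff _ _).1 (hc.symm.trans (hD x hx))
    refine ⟨c.1 * u, Mero.algebraMap_KStalk_injective x ?_⟩
    rw [map_mul, map_mul, ← frac_val_mul a.1 b ⟨x, hx⟩]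
    exact congrArg (· * _) hu
  · rintro ⟨c, hc⟩
    obtain ⟨V, hxV, c₀, rfl⟩ := X.presheaf.exists_germ_eq c
    have h : X.presheaf.germ (V ⊓ W) x ⟨hxV, hx⟩ (X.presheaf.map (homOfLE inf_le_right).op a.1) =
        X.presheaf.germ (V ⊓ W) x ⟨hxV, hx⟩ (X.presheaf.map (homOfLE inf_le_left).op c₀ *
          X.presheaf.map (homOfLE inf_le_right).op b.1) := by
      rw [map_mul, TopCat.Presheaf.germ_res_apply, TopCat.Presheaf.germ_res_apply,
        TopCat.Presheaf.germ_res_apply, hc]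
    obtain ⟨T, hxT, i, j, hT⟩ := TopCat.Presheaf.germ_eq X.presheaf x _ _ _ _ h
    have hc0 : X.presheaf.map (i ≫ homOfLE inf_le_left).op c₀ ∈ Mero.regSub X T := fun y => by
      have h2 := congrArg (X.presheaf.germ T y.1 y.2) hT
      simp only [map_mul, TopCat.Presheaf.germ_res_apply] at h2
      rw [TopCat.Presheaf.germ_res_apply]
      have := a.2 ⟨y.1, (inf_le_right (a := V) (i.le y.2))⟩
      rw [h2] at this
      exact (mul_mem_nonZeroDivisors.1 this).1
    refine ⟨⟨_, T, hxT, _, hc0, TopCat.Presheaf.germ_res_apply X.presheaf _ x hxT c₀⟩, ?_⟩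
    refine (hD x hx).trans (congrArg _ (Units.ext ?_))
    show (frac a.1 b).1 ⟨x, hx⟩ = algebraMap _ _ (X.presheaf.germ V x _ c₀)
    rw [← (isUnit_algebraMap_germ b ⟨x, hx⟩).mul_left_inj, frac_val_mul, ← map_mul]
    exact congrArg _ hc

theorem depth_eq_one_of_colon {R : Type u} [CommRing R] [IsLocalRing R] [IsNoetherianRing R] {a b : R}
    (hb : b ∈ nonZeroDivisors R) (hab : ∀ c, a ≠ c * b)
    (h : ∀ p : Ideal R, p.IsPrime → (∀ r c : R, r * a = c * b → r ∈ p) → p = IsLocalRing.maximalIdeal R) :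
    _root_.LocCoh.depth R R = 1 := by
  have hbm : b ∈ IsLocalRing.maximalIdeal R := fun hu => by
    obtain ⟨u, rfl⟩ := hu
    exact hab (a * ↑u⁻¹) (by rw [mul_assoc, Units.inv_mul, mul_one])
  have hreg : IsSMulRegular R b := fun r s hrs => by
    have : b * (r - s) = 0 := by rw [mul_sub, sub_eq_zero]; exact hrs
    exact sub_eq_zero.1 (mem_nonZeroDivisors_iff.1 hb |>.1 _ this)
  rw [← CAlgH3.depth_quotSMulTop_add_one hbm hreg]
  let q : R →ₗ[R] QuotSMulTop b R := Submodule.mkQ _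
  have hq : ∀ r : R, q r = 0 ↔ ∃ c, r = c * b := fun r => by
    rw [← LinearMap.mem_ker, Submodule.ker_mkQ]
    constructor
    · intro hr
      obtain ⟨c, -, hc⟩ := (Submodule.mem_smul_pointwise_iff_exists _ _ _).1 hr
      exact ⟨c, by rw [mul_comm]; exact hc.symm⟩
    · rintro ⟨c, rfl⟩
      exact (Submodule.mem_smul_pointwise_iff_exists _ _ _).2 ⟨c, trivial, mul_comm _ _⟩
  have hann : ∀ r : R, r ∈ annEl R (q a) ↔ ∃ c, r * a = c * b := fun r => by
    rw [mem_annEl, ← map_smul, hq, smul_eq_mul]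
  haveI : Nontrivial (QuotSMulTop b R) :=
    nontrivial_of_ne (q a) 0 fun h0 => hab _ ((hq a).1 h0).choose_spec
  have hass : IsLocalRing.maximalIdeal R ∈ associatedPrimes R (QuotSMulTop b R) := by
    refine ⟨(IsLocalRing.maximalIdeal.isMaximal R).isPrime, q a, ?_⟩
    rw [CAlgH3.colon_bot_singleton]
    refine le_antisymm ?_ ?_
    · rw [Ideal.radical_eq_sInf]
      exact le_sInf fun p hp => (h p hp.2 fun r c hrc => hp.1 ((hann r).2 ⟨c, hrc⟩)).ge
    · refine (IsLocalRing.maximalIdeal.isMaximal R).isPrime.radical_le_iff.2 (IsLocalRing.le_maximalIdeal ?_)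
      rw [Ne, CAlgH3.annEl_eq_top]
      exact fun h0 => hab _ ((hq a).1 h0).choose_spec
  rw [CAlgH3.depth_eq_zero_iff.2 hass, zero_add]

/-- A divisor effective at all proper generizations of `x` but not at `x`: depth one at `x`. -/
theorem depth_eq_one_of_not_effective [IsLocallyNoetherian X] (D : Mero.Divisor X) {x : X}
    (hx : ¬ Mero.IsEffectiveAt D x) (h : ∀ z : X, z ⤳ x → z ≠ x → Mero.IsEffectiveAt D z) :
    _root_.LocCoh.depth ↑(X.presheaf.stalk x) ↑(X.presheaf.stalk x) = 1 := by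
  obtain ⟨W, hW, hxW, a, b, hab⟩ := exists_divisor_fraction D x
  rw [isEffectiveAt_iff D a b hab hxW, not_exists] at hx
  refine depth_eq_one_of_colon (b.2 ⟨x, hxW⟩) hx fun p hp hI => ?_
  letI := TopCat.Presheaf.algebra_section_stalk X.presheaf (⟨x, hxW⟩ : W)
  haveI := hW.isLocalization_stalk ⟨x, hxW⟩
  haveI := hp
  obtain ⟨z, hz, hzq⟩ := exists_point hW (p.comap (algebraMap Γ(X, W) (X.presheaf.stalk x)))
  have hdisj := (IsLocalization.isPrime_iff_isPrime_disjoint (primeAt hW hxW).primeCompl _ p).1 hp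
  have hzx : z ⤳ x := (specializes_iff hW hz hxW).2 (hzq ▸ fun r hr => by
    by_contra hrx
    exact Set.disjoint_left.1 hdisj.2 hrx hr)
  by_contra hpm
  have hne : z ≠ x := by
    rintro rfl
    refine hpm ?_
    rw [← IsLocalization.map_under (primeAt hW hz).primeCompl _ p]
    exact (congrArg (Ideal.map (algebraMap Γ(X, W) (X.presheaf.stalk z))) hzq.symm).trans
      (maximalIdeal_eq_map_primeAt hW hz).symm
  obtain ⟨c, hc⟩ := (isEffectiveAt_iff D a b hab hz).1 (h z hzx hne)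
  letI := TopCat.Presheaf.algebra_section_stalk X.presheaf (⟨z, hz⟩ : W)
  haveI := hW.isLocalization_stalk ⟨z, hz⟩
  obtain ⟨⟨r, t⟩, hrt⟩ := IsLocalization.surj (hW.primeIdealOf ⟨z, hz⟩).asIdeal.primeCompl c
  have h0 : X.presheaf.germ W z hz (t.1 * a.1) = X.presheaf.germ W z hz (r * b.1) := by
    rw [map_mul, map_mul, hc, ← mul_assoc]
    exact congrArg (· * _) ((mul_comm _ _).trans hrt)
  obtain ⟨s, hs⟩ := (IsLocalization.eq_iff_exists (hW.primeIdealOf ⟨z, hz⟩).asIdeal.primeCompl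
    (X.presheaf.stalk z)).1 h0
  have hmem : s.1 * t.1 ∈ primeAt hW hz := by
    rw [hzq]
    refine hI _ (X.presheaf.germ W x hxW (s.1 * r)) ?_
    show X.presheaf.germ W x hxW (s.1 * t.1) * X.presheaf.germ W x hxW a.1 = _
    rw [← map_mul, ← map_mul, mul_assoc, mul_assoc, hs]
  exact ((hW.primeIdealOf ⟨z, hz⟩).asIdeal.primeCompl.mul_mem s.2 t.2) hmem

theorem divisor_eq_one_iff (D : Mero.Divisor X) (x : X) :
    D.1 x = 1 ↔ Mero.IsEffectiveAt D x ∧ Mero.IsEffectiveAt D⁻¹ x := by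
  constructor
  · intro h
    have : (1 : Mero.Germ X x) = QuotientGroup.mk (IsLocalization.map_units (Mero.KStalk X x)
        (1 : Mero.regStalk X x)).unit := (germ_eq_one_of_isUnit isUnit_one rfl).symm
    refine ⟨⟨1, h.trans this⟩, ⟨1, ?_⟩⟩
    show (D.1 x)⁻¹ = _
    rw [h, inv_one]; exact this
  · rintro ⟨⟨c, hc⟩, ⟨c', hc'⟩⟩
    change (D.1 x)⁻¹ = _ at hc'
    rw [hc, inv_eq_iff_mul_eq_one, ← QuotientGroup.mk_mul, QuotientGroup.eq_one_iff] at hc'
    obtain ⟨u, hu⟩ := hc'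
    have hu' := congrArg Units.val hu
    have hcc : (u : X.presheaf.stalk x) = c.1 * c'.1 := Mero.algebraMap_KStalk_injective x (by
      rw [map_mul]; simpa using hu')
    rw [hc]
    exact germ_eq_one_of_isUnit (isUnit_of_mul_isUnit_left (hcc ▸ u.isUnit)) rfl

/-- Nonempty sets of generizations of a point have minimal elements. -/
theorem exists_minimal_generization [IsLocallyNoetherian X] (P : X → Prop) {x : X} (hx : P x) :
    ∃ z : X, P z ∧ ∀ w : X, w ⤳ z → w ≠ z → ¬ P w := by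
  obtain ⟨W, hW, hxW, -⟩ := exists_affine (show x ∈ (⊤ : X.Opens) from trivial)
  haveI := isNoetherianRing_of_isAffineOpen hW
  let S : Set W := {z | P z.1}
  let f : W → ℕ∞ := fun z => (primeAt hW z.2).height
  obtain ⟨z, hzS, hmin⟩ : ∃ z ∈ S, ∀ w ∈ S, f z ≤ f w := by
    obtain ⟨z, hz, hzmin⟩ := (InvImage.wf f wellFounded_lt).has_min S ⟨⟨x, hxW⟩, hx⟩
    exact ⟨z, hz, fun w hw => not_lt.1 (hzmin w hw)⟩
  refine ⟨z.1, hzS, fun w hw hne hPw => ?_⟩
  have hwW : w ∈ W := hw.mem_open W.isOpen z.2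
  haveI : (primeAt hW hwW).IsPrime := (hW.primeIdealOf ⟨w, hwW⟩).2
  haveI : (primeAt hW z.2).IsPrime := (hW.primeIdealOf z).2
  have hlt : primeAt hW hwW < primeAt hW z.2 :=
    lt_of_le_of_ne ((specializes_iff hW hwW z.2).1 hw) fun h => hne (SDiv28.eq_of_primeAt_eq hW hwW z.2 h)
  exact (Ideal.height_strict_mono_of_isPrime hlt).not_ge (hmin ⟨w, hwW⟩ hPw)

theorem isEffective_of_depth_one [IsLocallyNoetherian X] (D : Mero.Divisor X)
    (h : ∀ x : X, _root_.LocCoh.depth ↑(X.presheaf.stalk x) ↑(X.presheaf.stalk x) = 1 → Mero.IsEffectiveAt D x) :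
    Mero.IsEffective D := by
  intro x
  by_contra hx
  obtain ⟨z, hz, hmin⟩ := exists_minimal_generization (fun y => ¬ Mero.IsEffectiveAt D y) hx
  exact hz (h z (depth_eq_one_of_not_effective D hz fun w hw hne => not_not.1 (hmin w hw hne)))

theorem depth_eq_one_of_maximal_mem_supp [IsLocallyNoetherian X] (D : Mero.Divisor X) {x : X}
    (hx : x ∈ Mero.supp D) (hmax : ∀ z : X, z ∈ Mero.supp D → z ⤳ x → z = x) :
    _root_.LocCoh.depth ↑(X.presheaf.stalk x) ↑(X.presheaf.stalk x) = 1 := by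
  have h1 : ∀ z : X, z ⤳ x → z ≠ x → Mero.IsEffectiveAt D z ∧ Mero.IsEffectiveAt D⁻¹ z := fun z hz hne =>
    (divisor_eq_one_iff D z).1 (by_contra fun h => hne (hmax z h hz))
  by_cases hD : Mero.IsEffectiveAt D x
  · exact depth_eq_one_of_not_effective D⁻¹ (fun h => hx ((divisor_eq_one_iff D x).2 ⟨hD, h⟩))
      fun z hz hne => (h1 z hz hne).2
  · exact depth_eq_one_of_not_effective D hD fun z hz hne => (h1 z hz hne).1

end Groth.Agent.MeroLib
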