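import Groth.Agent.MeroLib.Basic
import Mathlib

/-!
# Invertible fractional ideals and `O_X(D)`
-/

set_option autoImplicit false
set_option backward.isDefEq.respectTransparency.types false
universe u

open CategoryTheory AlgebraicGeometry Opposite TopologicalSpace
open Groth.Agent.Coherent Groth.Agent.PicLib

namespace Groth.Agent.MeroLib

variable {X : Scheme.{u}}

theorem smul_val {U : X.Opens} (r : Γ(X, U)) (f : Γ(Mero.kmod X, U)) (x : U) :
    (r • f).1 x = algebraMap _ _ (X.presheaf.germ U x.1 x.2 r) * f.1 x :=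
  (Algebra.smul_def _ _).trans rfl

theorem smul_eq_toK_mul {U : X.Opens} (r : Γ(X, U)) (f : Γ(Mero.kmod X, U)) :
    r • f = Mero.toK X U r * f :=
  Subtype.ext (funext fun x => (smul_val r f x).trans (by rw [Mero.kmod_mul_apply, toK_val]))

/-- Sections of `K_X` with the same value at `x` agree near `x`. -/
theorem exists_eq_near {U : X.Opens} (f : Γ(Mero.kmod X, U)) {x : X} (hx : x ∈ U) (h : f.1 ⟨x, hx⟩ = 0) :
    ∃ (W : X.Opens) (hWU : W ≤ U), x ∈ W ∧ resM (Mero.kmod X) hWU f = 0 := by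
  obtain ⟨W, hWU, hxW, r, hr⟩ := exists_toK_near f hx (h ▸ zero_mem _)
  have h0 : X.presheaf.germ W x hxW r = X.presheaf.germ W x hxW 0 :=
    Mero.algebraMap_KStalk_injective x (by rw [map_zero, map_zero, ← hr x hxW, h])
  obtain ⟨T, hxT, i, j, hT⟩ := TopCat.Presheaf.germ_eq X.presheaf x _ _ _ _ h0
  refine ⟨T, i.le.trans hWU, hxT, Subtype.ext (funext fun y => ?_)⟩
  show f.1 ⟨y.1, hWU (i.le y.2)⟩ = 0
  have h2 := congrArg (X.presheaf.germ T y.1 y.2) hT
  simp only [TopCat.Presheaf.germ_res_apply] at h2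
  rw [hr y.1 (i.le y.2), h2, map_zero, map_zero]

variable {J : X.Modules} (ι : J ⟶ Mero.kmod X) [Mono ι]

theorem isGen_of_range {U : X.Opens} (f : (Γ(Mero.kmod X, U))ˣ)
    (h : ∀ (V : X.Opens) (hV : V ≤ U), Set.range ⇑(ι.val.app (Opposite.op V)) =
          {t : Γ(Mero.kmod X, V) | ∃ r : Γ(X, V),
            t = Mero.toK X V r * (Mero.kmod X).presheaf.map (homOfLE hV).op (f : Γ(Mero.kmod X, U))}) :
    ∃ s : Γ(J, U), IsGen J U s := by
  obtain ⟨s, hs⟩ : (f : Γ(Mero.kmod X, U)) ∈ Set.range ⇑(ι.app U) := by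
    change _ ∈ Set.range ⇑(ι.val.app (Opposite.op U))
    rw [h U le_rfl]
    exact ⟨1, by rw [map_one, one_mul]; exact Subtype.ext (funext fun _ => rfl)⟩
  have key : ∀ (V : X.Opens) (hV : V ≤ U) (r : Γ(X, V)), ι.app V (r • resM J hV s) =
      Mero.toK X V r * (Mero.kmod X).presheaf.map (homOfLE hV).op (f : Γ(Mero.kmod X, U)) := fun V hV r => by
    rw [Scheme.Modules.Hom.app_smul, app_resM, hs]
    exact smul_eq_toK_mul r _
  refine ⟨s, fun V hV => ⟨fun r r' hr => ?_, fun t => ?_⟩⟩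
  · have h2 := congrArg (ι.app V) hr
    rw [key, key] at h2
    exact toK_injective V
      (((f.isUnit).map ((Mero.kring X).obj.map (homOfLE hV).op).hom).mul_left_inj.1 h2)
  · have : ι.app V t ∈ Set.range ⇑(ι.val.app (Opposite.op V)) := ⟨t, rfl⟩
    rw [h V hV] at this
    obtain ⟨r, hr⟩ := this
    exact ⟨r, app_injective_of_mono ι V ((key V hV r).trans hr.symm)⟩

theorem isUnit_of_isGen {U : X.Opens} {s : Γ(J, U)} (hs : IsGen J U s) : IsUnit (ι.app U s) := by
  refine isUnit_of_pointwise _ fun x r hr => ?_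
  obtain ⟨V, hxV, r₀, rfl⟩ := X.presheaf.exists_germ_eq r
  have h0 : (ι.app (V ⊓ U) (res (inf_le_left : V ⊓ U ≤ V) r₀ • resM J inf_le_right s) :
      Γ(Mero.kmod X, V ⊓ U)).1 ⟨x.1, hxV, x.2⟩ = 0 := by
    rw [Scheme.Modules.Hom.app_smul, app_resM]
    refine (smul_val _ _ _).trans ?_
    rw [TopCat.Presheaf.germ_res_apply]
    exact hr
  obtain ⟨W, hW, hxW, hz⟩ := exists_eq_near _ (show x.1 ∈ V ⊓ U from ⟨hxV, x.2⟩) h0
  rw [← app_resM, resM_smul, resM_resM, res_res] at hz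
  have h2 : res (hW.trans inf_le_left) r₀ = 0 := (hs W (hW.trans inf_le_right)).1
    ((app_injective_of_mono ι W (hz.trans (map_zero _).symm)).trans (zero_smul _ _).symm)
  have h3 := congrArg (X.presheaf.germ W x.1 hxW) h2
  rw [map_zero, TopCat.Presheaf.germ_res_apply] at h3
  exact h3

theorem isInvertible_iff :
    PicF.IsInvertible J ↔ ∀ x : ↥X, ∃ (U : X.Opens) (_ : x ∈ U) (f : (Γ(Mero.kmod X, U))ˣ),
      ∀ (V : X.Opens) (hV : V ≤ U),
        Set.range ⇑(ι.val.app (Opposite.op V)) =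
          {t : Γ(Mero.kmod X, V) | ∃ r : Γ(X, V),
            t = Mero.toK X V r * (Mero.kmod X).presheaf.map (homOfLE hV).op (f : Γ(Mero.kmod X, U))} := by
  constructor
  · intro hJ x
    obtain ⟨U, hxU, s, hs⟩ := exists_isGen hJ x
    refine ⟨U, hxU, (isUnit_of_isGen ι hs).unit, fun V hV => Set.ext fun t => ?_⟩
    have key : ∀ r : Γ(X, V), ι.app V (r • resM J hV s) =
        Mero.toK X V r * resM (Mero.kmod X) hV (ι.app U s) := fun r => by
      rw [Scheme.Modules.Hom.app_smul, app_resM]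
      exact smul_eq_toK_mul r _
    constructor
    · rintro ⟨z, rfl⟩
      exact ⟨hs.coef hV z, ((congrArg (ι.app V) (hs.coef_spec hV z)).symm.trans (key _))⟩
    · rintro ⟨r, rfl⟩
      exact ⟨r • resM J hV s, key r⟩
  · intro h
    exact isInvertible_of_gens fun x => by
      obtain ⟨U, hxU, f, hf⟩ := h x
      exact ⟨U, hxU, isGen_of_range ι f hf⟩

/-- The sections of `O_X(D)` where `D` is the class of the unit `g`. -/
theorem exists_mul_eq (D : Mero.Divisor X) {W : X.Opens} (g : (Γ(Mero.kmod X, W))ˣ)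
    (hD : ∀ y : W, D.1 y.1 = Mero.germOf g y) {V : X.Opens} (hV : V ≤ W) (t : Γ(Mero.kmod X, V)) :
    (∀ x : V, Mero.DivCond D x.1 (t.1 x)) ↔ ∃ r : Γ(X, V),
      t = Mero.toK X V r * (Mero.kmod X).presheaf.map (homOfLE hV).op ((g⁻¹ : _) : Γ(Mero.kmod X, W)) := by
  have hg : ∀ x : V, (g : Γ(Mero.kmod X, W)).1 ⟨x.1, hV x.2⟩ * ((g⁻¹ : _) : Γ(Mero.kmod X, W)).1 ⟨x.1, hV x.2⟩ = 1 :=
    fun x => congrArg (fun f : Γ(Mero.kmod X, W) => f.1 ⟨x.1, hV x.2⟩) g.mul_inv
  constructor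
  · intro h
    obtain ⟨r, hr⟩ := exists_toK_eq (t * (Mero.kmod X).presheaf.map (homOfLE hV).op (g : Γ(Mero.kmod X, W)))
      (fun x => (divCond_iff D (hD ⟨x.1, hV x.2⟩) _).1 (h x))
    refine ⟨r, ?_⟩
    rw [hr]
    refine Subtype.ext (funext fun x => ?_)
    show t.1 x = t.1 x * (g : Γ(Mero.kmod X, W)).1 ⟨x.1, hV x.2⟩ * _
    rw [mul_assoc]
    exact ((congrArg (t.1 x * ·) (hg x)).trans (mul_one _)).symm
  · rintro ⟨r, rfl⟩ x
    refine (divCond_iff D (hD ⟨x.1, hV x.2⟩) _).2 ⟨X.presheaf.germ V x.1 x.2 r, ?_⟩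
    show _ = (Mero.toK X V r).1 x * _ * (g : Γ(Mero.kmod X, W)).1 ⟨x.1, hV x.2⟩
    rw [mul_assoc, toK_val]
    exact ((congrArg (_ * ·) ((mul_comm _ _).trans (hg x))).trans (mul_one _)).symm

instance mono_divModι (D : Mero.Divisor X) : Mono (Mero.divModι D) := by
  refine ⟨fun {Z} f g h => ?_⟩
  refine SheafOfModules.Hom.ext (PresheafOfModules.hom_ext fun U => ModuleCat.hom_ext (LinearMap.ext fun z => ?_))
  have h2 : (Mero.divModι D).app U.unop (f.app U.unop z) = (Mero.divModι D).app U.unop (g.app U.unop z) :=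
    congrArg (fun φ : Z ⟶ Mero.kmod X => φ.app U.unop z) h
  exact Subtype.ext (congrArg Subtype.val h2 :)

theorem range_divModι (D : Mero.Divisor X) (V : X.Opens) :
    Set.range ⇑((Mero.divModι D).val.app (Opposite.op V)) =
      {t : Γ(Mero.kmod X, V) | ∀ x : V, Mero.DivCond D x.1 (t.1 x)} := by
  ext t
  constructor
  · rintro ⟨⟨f, hf⟩, rfl⟩
    exact hf.2
  · intro h
    exact ⟨⟨t.1, t.2, h⟩, Subtype.ext rfl⟩

theorem isInvertible_divMod (D : Mero.Divisor X) : PicF.IsInvertible (Mero.divMod D) := by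
  refine (isInvertible_iff (Mero.divModι D)).2 fun x => ?_
  obtain ⟨W, -, hxW, a, b, hab⟩ := exists_divisor_fraction D x
  exact ⟨W, hxW, (fracUnit a b)⁻¹, fun V hV =>
    (range_divModι D V).trans (Set.ext fun t => exists_mul_eq D (fracUnit a b) (fun y => hab y.1 y.2) hV t)⟩

end Groth.Agent.MeroLib
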