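import Groth.Agent.MeroLib.Invertible
import Mathlib

/-!
# Regular sections on locally Noetherian schemes, pullbacks, supports
-/

set_option autoImplicit false
set_option backward.isDefEq.respectTransparency.types false
universe u

open CategoryTheory AlgebraicGeometry Opposite TopologicalSpace
open Groth.Agent.AssSch12

namespace Groth.Agent.MeroLib

variable {X : Scheme.{u}}

theorem isUnit_of_regular_of_assoc {R : Type u} [CommRing R] [IsLocalRing R]
    (hm : IsAssociatedPrime (IsLocalRing.maximalIdeal R) R) {a : R} (ha : a ∈ nonZeroDivisors R) : IsUnit a := by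
  by_contra h
  obtain ⟨-, z, hz⟩ := hm
  have haz : a ∈ IsLocalRing.maximalIdeal R := h
  have hz0 : z ≠ 0 := by
    rintro rfl
    refine (IsLocalRing.maximalIdeal.isMaximal R).ne_top (hz.trans ?_)
    rw [CAlgH3.colon_bot_singleton, eq_top_iff]
    intro r _
    refine Ideal.le_radical ?_
    simp [CAlgH3.mem_annEl]
  rw [hz, CAlgH3.colon_bot_singleton] at haz
  obtain ⟨n, hn⟩ := haz
  exact hz0 (mem_nonZeroDivisors_iff.1 (pow_mem ha n) |>.1 z (CAlgH3.mem_annEl.1 hn))

/-- Variant of `SDiv28.regSub_app`. -/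
theorem regSub_app_of_assoc {Y : Scheme.{u}} (f : X ⟶ Y)
    (h : ∀ x : X, Curv2.IsWeakAssPoint (Coh.structureModule X) x →
      IsAssociatedPrime (IsLocalRing.maximalIdeal (Y.presheaf.stalk (f x))) (Y.presheaf.stalk (f x)))
    (U : Y.Opens) (s : Γ(Y, U)) (hs : s ∈ Mero.regSub Y U) : f.app U s ∈ Mero.regSub X (f ⁻¹ᵁ U) := by
  rintro ⟨x, hx⟩
  obtain ⟨W, hW, hxW, hWU⟩ := exists_affine hx
  have hres : X.presheaf.map (homOfLE hWU).op (f.app U s) ∈ Mero.regSub X W := by
    refine SDiv28.mem_regSub_of_weak hW _ fun y hy hyw => ?_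
    rw [Scheme.basicOpen_res, ← Scheme.preimage_basicOpen]
    exact ⟨hy, (Y.mem_basicOpen s (f y) (hWU hy)).2 (isUnit_of_regular_of_assoc (h y hyw) (hs ⟨f y, hWU hy⟩))⟩
  have := hres ⟨x, hxW⟩
  rwa [TopCat.Presheaf.germ_res_apply] at this

/-- At a point of the support of a divisor there is a regular nonunit. -/
theorem exists_regular_of_mem_supp (D : Mero.Divisor X) {x : X} (hx : x ∈ Mero.supp D) :
    ∃ a ∈ IsLocalRing.maximalIdeal (X.presheaf.stalk x), a ∈ nonZeroDivisors (X.presheaf.stalk x) := by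
  obtain ⟨W, -, hxW, a, b, hab⟩ := exists_divisor_fraction D x
  by_contra h
  push Not at h
  have hu : ∀ c : Mero.regSub X W, IsUnit (X.presheaf.germ W x hxW c.1) := fun c => by
    by_contra hc
    exact h _ hc (c.2 ⟨x, hxW⟩)
  exact hx ((hab x hxW).trans ((germ_eq_one_iff_fracUnit a b ⟨x, hxW⟩).2
    ⟨(hu a).unit * (hu b).unit⁻¹, by rw [Units.val_mul, IsUnit.unit_spec, mul_assoc, IsUnit.val_inv_mul, mul_one]⟩))

theorem one_le_ringKrullDim_of_nzd {R : Type u} [CommRing R] [IsLocalRing R] {a : R}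
    (ha : a ∈ IsLocalRing.maximalIdeal R) (ha' : a ∈ nonZeroDivisors R) : (1 : WithBot ℕ∞) ≤ ringKrullDim R := by
  by_contra h
  have h0 : ringKrullDim R ≤ 0 := by
    revert h
    generalize ringKrullDim R = d
    induction d using WithBot.recBotCoe with
    | bot => intro _; exact bot_le
    | coe d =>
      intro h
      have h' : ¬ (1 : ℕ∞) ≤ d := fun hh => h (by exact_mod_cast hh)
      have : d = 0 := by rw [Order.one_le_iff_pos, pos_iff_ne_zero, not_not] at h'; exact h'
      subst this; simp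
  haveI : Ring.KrullDimLE 0 R := (Ring.krullDimLE_iff (n := 0)).2 h0
  have hmin : IsLocalRing.maximalIdeal R ∈ minimalPrimes R :=
    Ring.KrullDimLE.mem_minimalPrimes_iff.2 ⟨(IsLocalRing.maximalIdeal.isMaximal R).isPrime, bot_le⟩
  exact Set.disjoint_left.1 (Ideal.disjoint_nonZeroDivisors_of_mem_minimalPrimes hmin) ha ha'

end Groth.Agent.MeroLib
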