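import Groth.Agent.MeroLib.Invertible
import Groth.Agent.PicLib.PullbackGen
import Groth.Agent.SDiv28.RegMeroExists
import Mathlib

/-!
# Regular meromorphic sections and `O_X(D)`
-/

set_option autoImplicit false
set_option backward.isDefEq.respectTransparency.types false
universe u

open CategoryTheory AlgebraicGeometry Opposite TopologicalSpace
open Groth.Agent.Coherent Groth.Agent.PicLib

namespace Groth.Agent.MeroLib

variable {X : Scheme.{u}}

/-- Restriction of units of `K_X`. -/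
noncomputable def resU {U V : X.Opens} (h : V ≤ U) (u : (Γ(Mero.kmod X, U))ˣ) : (Γ(Mero.kmod X, V))ˣ :=
  Units.map ((Mero.kring X).obj.map (homOfLE h).op).hom.toMonoidHom u

theorem resU_val {U V : X.Opens} (h : V ≤ U) (u : (Γ(Mero.kmod X, U))ˣ) (y : V) :
    (resU h u : Γ(Mero.kmod X, V)).1 y = (u : Γ(Mero.kmod X, U)).1 ⟨y.1, h y.2⟩ := rfl

/-- The generator `u⁻¹` of `O_X(D)` where `D` is the class of `u`. -/
theorem exists_gen_divMod (D : Mero.Divisor X) {U : X.Opens} (u : (Γ(Mero.kmod X, U))ˣ)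
    (hD : ∀ y : U, D.1 y.1 = Mero.germOf u y) :
    ∃ t : Γ(Mero.divMod D, U),
      (Mero.divModι D).app U t = (u⁻¹ : (Γ(Mero.kmod X, U))ˣ).val ∧ IsGen (Mero.divMod D) U t := by
  have hr : ∀ (V : X.Opens) (hV : V ≤ U), Set.range ⇑((Mero.divModι D).val.app (Opposite.op V)) =
        {t : Γ(Mero.kmod X, V) | ∃ r : Γ(X, V),
          t = Mero.toK X V r * (Mero.kmod X).presheaf.map (homOfLE hV).op ((u⁻¹ : _) : Γ(Mero.kmod X, U))} :=
    fun V hV => (range_divModι D V).trans (Set.ext fun t => exists_mul_eq D u hD hV t)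
  obtain ⟨t, ht⟩ : ((u⁻¹ : _) : Γ(Mero.kmod X, U)) ∈ Set.range ⇑((Mero.divModι D).app U) := by
    change _ ∈ Set.range ⇑((Mero.divModι D).val.app (Opposite.op U))
    rw [hr U le_rfl]
    exact ⟨1, by rw [map_one, one_mul]; exact Subtype.ext (funext fun _ => rfl)⟩
  refine ⟨t, ht, ?_⟩
  obtain ⟨t', ht'⟩ := isGen_of_range (Mero.divModι D) u⁻¹ hr
  have hu := isUnit_of_isGen (Mero.divModι D) ht'
  obtain ⟨r, hr'⟩ : ∃ r : Γ(X, U), t = r • t' := ⟨ht'.coef le_rfl t, by
    conv_lhs => rw [← ht'.coef_spec le_rfl t]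
    rw [resM_self]⟩
  intro V hV
  have key : ∀ a : Γ(X, V), (Mero.divModι D).app V (a • resM (Mero.divMod D) hV t) =
      Mero.toK X V a * resM (Mero.kmod X) hV ((u⁻¹ : _) : Γ(Mero.kmod X, U)) := fun a => by
    rw [Scheme.Modules.Hom.app_smul, app_resM, ht]
    exact smul_eq_toK_mul a _
  refine ⟨fun a b hab => toK_injective V ?_, fun z => ?_⟩
  · have h2 := congrArg ((Mero.divModι D).app V) hab
    rw [key, key] at h2
    exact (((u⁻¹).isUnit).map ((Mero.kring X).obj.map (homOfLE hV).op).hom).mul_left_inj.1 h2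
  · have : (Mero.divModι D).app V z ∈ Set.range ⇑((Mero.divModι D).val.app (Opposite.op V)) := ⟨z, rfl⟩
    rw [hr V hV] at this
    obtain ⟨a, ha⟩ := this
    exact ⟨a, app_injective_of_mono (Mero.divModι D) V ((key a).trans ha.symm)⟩

/-- A module with charts `(s, u)` such that the `u⁻¹` transform like the generators `s` is `O_X(D)`. -/
theorem exists_iso_divMod {L : X.Modules} (D : Mero.Divisor X) (U : X → X.Opens) (hU : ∀ x, x ∈ U x)
    (s : ∀ x, Γ(L, U x)) (hs : ∀ x, IsGen L (U x) (s x)) (u : ∀ x, (Γ(Mero.kmod X, U x))ˣ)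
    (hD : ∀ (x : X) (y : U x), D.1 y.1 = Mero.germOf (u x) y)
    (hc : ∀ (i j : X) (W : X.Opens) (hi : W ≤ U i) (hj : W ≤ U j) (c : Γ(X, W)),
      resM L hi (s i) = c • resM L hj (s j) →
        (resU hj (u j) : Γ(Mero.kmod X, W)) = Mero.toK X W c * (resU hi (u i) : Γ(Mero.kmod X, W))) :
    ∃ e : L ≅ Mero.divMod D, ∀ x, (Mero.divModι D).app (U x) (e.hom.app (U x) (s x)) =
      ((u x)⁻¹ : (Γ(Mero.kmod X, U x))ˣ).val := by
  choose t ht hgen using fun x => exists_gen_divMod D (u x) (hD x)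
  have hcov : iSup U = ⊤ := top_le_iff.1 fun x _ => Opens.mem_iSup.2 ⟨x, hU x⟩
  obtain ⟨φ, hφ⟩ := exists_hom_of_gen U hcov s hs t fun i j W hi hj c h => by
    refine app_injective_of_mono (Mero.divModι D) W ?_
    rw [app_resM, Scheme.Modules.Hom.app_smul, app_resM, ht, ht]
    refine Eq.trans ?_ (smul_eq_toK_mul c _).symm
    show ((resU hi (u i))⁻¹ : (Γ(Mero.kmod X, W))ˣ).val = Mero.toK X W c * ((resU hj (u j))⁻¹ : (Γ(Mero.kmod X, W))ˣ).val
    rw [Units.eq_mul_inv_iff_mul_eq, Units.inv_mul_eq_iff_eq_mul, hc i j W hi hj c h]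
    exact mul_comm _ _
  haveI := isIso_of_gens φ U hcov s hs (fun x => by rw [hφ]; exact hgen x)
  exact ⟨asIso φ, fun x => by rw [asIso_hom, hφ, ht]⟩

theorem nonempty_iso_divMod {L : X.Modules} (D : Mero.Divisor X) (U : X → X.Opens) (hU : ∀ x, x ∈ U x)
    (s : ∀ x, Γ(L, U x)) (hs : ∀ x, IsGen L (U x) (s x)) (u : ∀ x, (Γ(Mero.kmod X, U x))ˣ)
    (hD : ∀ (x : X) (y : U x), D.1 y.1 = Mero.germOf (u x) y)
    (hc : ∀ (i j : X) (W : X.Opens) (hi : W ≤ U i) (hj : W ≤ U j) (c : Γ(X, W)),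
      resM L hi (s i) = c • resM L hj (s j) →
        (resU hj (u j) : Γ(Mero.kmod X, W)) = Mero.toK X W c * (resU hi (u i) : Γ(Mero.kmod X, W))) :
    Nonempty (L ≅ Mero.divMod D) :=
  ⟨(exists_iso_divMod D U hU s hs u hD hc).choose⟩

theorem germOf_fracUnit_eq {W : X.Opens} (a b : Mero.regSub X W) (y : W) :
    (Units.map (Mero.evalK X W y).toMonoidHom (fracUnit a b) : Mero.KStalk X y.1) *
      algebraMap _ _ (X.presheaf.germ W y.1 y.2 b.1) = algebraMap _ _ (X.presheaf.germ W y.1 y.2 a.1) :=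
  frac_val_mul a.1 b y

section charts

variable {L : X.Modules} (U : X → X.Opens) (hU : ∀ x, x ∈ U x)
  (s : ∀ x, Γ(L, U x)) (hs : ∀ x, IsGen L (U x) (s x)) (a b : ∀ x, Mero.regSub X (U x))
  (hc : ∀ (i j y : X) (hi : y ∈ U i) (hj : y ∈ U j) (c : X.presheaf.stalk y),
    L.presheaf.germ (U i) y hi (s i) = c • L.presheaf.germ (U j) y hj (s j) →
    X.presheaf.germ (U j) y hj (a j).1 * X.presheaf.germ (U i) y hi (b i).1 =
      c * (X.presheaf.germ (U i) y hi (a i).1 * X.presheaf.germ (U j) y hj (b j).1))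

include hU hs hc in
theorem exists_divisor_iso_of_charts : ∃ D : Mero.Divisor X,
    (∀ (x : X) (y : U x), D.1 y.1 = Mero.germOf (fracUnit (a x) (b x)) y) ∧
      ∃ e : L ≅ Mero.divMod D, ∀ x, (Mero.divModι D).app (U x) (e.hom.app (U x) (s x)) =
        ((fracUnit (a x) (b x))⁻¹ : (Γ(Mero.kmod X, U x))ˣ).val := by
  have hu : ∀ (i j y : X) (hi : y ∈ U i) (hj : y ∈ U j) (c : X.presheaf.stalk y),
      L.presheaf.germ (U i) y hi (s i) = c • L.presheaf.germ (U j) y hj (s j) →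
      (fracUnit (a j) (b j) : Γ(Mero.kmod X, U j)).1 ⟨y, hj⟩ =
        algebraMap _ _ c * (fracUnit (a i) (b i) : Γ(Mero.kmod X, U i)).1 ⟨y, hi⟩ := by
    intro i j y hi hj c h
    rw [← ((isUnit_algebraMap_germ (b j) ⟨y, hj⟩).mul (isUnit_algebraMap_germ (b i) ⟨y, hi⟩)).mul_left_inj,
      ← mul_assoc, mul_mul_mul_comm]
    show (frac (a j).1 (b j)).1 ⟨y, hj⟩ * _ * _ = _ * _ * ((frac (a i).1 (b i)).1 ⟨y, hi⟩ * _)
    rw [frac_val_mul, frac_val_mul, ← map_mul, ← map_mul, ← map_mul, hc i j y hi hj c h]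
    congr 1
    show c * (_ * _) = c * X.presheaf.germ (U j) y hj (b j).1 * X.presheaf.germ (U i) y hi (a i).1
    ring
  let d : ∀ y : X, Mero.Germ X y := fun y => Mero.germOf (fracUnit (a y) (b y)) ⟨y, hU y⟩
  have hd : ∀ (x : X) (y : U x), d y.1 = Mero.germOf (fracUnit (a x) (b x)) y := by
    intro x y
    obtain ⟨c, hc'⟩ := (SDiv28.bijective_smul_germ_gen (hs x) y.2).2
      (L.presheaf.germ (U y.1) y.1 (hU y.1) (s y.1))
    obtain ⟨c', hc''⟩ := (SDiv28.bijective_smul_germ_gen (hs y.1) (hU y.1)).2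
      (L.presheaf.germ (U x) y.1 y.2 (s x))
    have hcc : c' * c = 1 := (SDiv28.bijective_smul_germ_gen (hs x) y.2).1 (by
      dsimp only at hc' hc'' ⊢
      rw [mul_smul, hc', hc'', one_smul])
    refine ((mk_eq_mk_iff _ _).2 ⟨(IsUnit.of_mul_eq_one c' ((mul_comm c c').trans hcc)).unit, ?_⟩ : _)
    rw [IsUnit.unit_spec, mul_comm]
    exact hu y.1 x y.1 (hU y.1) y.2 c hc'.symm
  refine ⟨⟨d, fun x => ⟨U x, hU x, fracUnit (a x) (b x), fun y => hd x y⟩⟩, hd,
    exists_iso_divMod _ U hU s hs (fun x => fracUnit (a x) (b x)) hd fun i j W hi hj c h => ?_⟩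
  refine Subtype.ext (funext fun y => ?_)
  rw [Mero.kmod_mul_apply, toK_val, resU_val, resU_val]
  refine hu i j y.1 (hi y.2) (hj y.2) _ ?_
  have h2 := congrArg (L.presheaf.germ W y.1 y.2) h
  rw [QCohLoc.germ_smul', TopCat.Presheaf.germ_res_apply, TopCat.Presheaf.germ_res_apply] at h2
  exact h2

include hU hs hc in
theorem exists_divisor_of_charts : ∃ D : Mero.Divisor X, Nonempty (L ≅ Mero.divMod D) := by
  obtain ⟨D, -, e, -⟩ := exists_divisor_iso_of_charts U hU s hs a b hc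
  exact ⟨D, ⟨e⟩⟩

include hU hs hc in
theorem hasRegularMero_of_charts : Mero.HasRegularMero L := by
  let F : ∀ y : (⊤ : X.Opens), Mero.MStalk L y.1 := fun y =>
    LocalizedModule.mk (X.presheaf.germ (U y.1) y.1 (hU y.1) (a y.1).1 • L.presheaf.germ (U y.1) y.1 (hU y.1) (s y.1))
      (Mero.regGerm ⟨y.1, hU y.1⟩ (b y.1))
  have hF : ∀ (i y : X) (hi : y ∈ U i), F ⟨y, trivial⟩ =
      LocalizedModule.mk (L.presheaf.germ (U i) y hi ((a i).1 • s i)) (Mero.regGerm ⟨y, hi⟩ (b i)) := by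
    intro i y hi
    obtain ⟨c, hc'⟩ := (SDiv28.bijective_smul_germ_gen (hs y) (hU y)).2 (L.presheaf.germ (U i) y hi (s i))
    refine LocalizedModule.mk_eq.2 ⟨1, ?_⟩
    dsimp only at hc'
    simp only [one_smul, Submonoid.smul_def]
    rw [QCohLoc.germ_smul', ← hc', ← mul_smul, ← mul_smul, ← mul_smul]
    congr 1
    rw [mul_comm, hc i y y hi (hU y) c hc'.symm]
    ring
  refine ⟨⟨F, fun x => ⟨U x.1, hU x.1, homOfLE le_top, (a x.1).1 • s x.1, b x.1, fun y => hF x.1 y.1 y.2⟩⟩,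
    fun x q hq => ?_⟩
  induction q using LocalizedModule.induction_on with
  | h r e =>
    have h1 := (LocalizedModule.mk_smul_mk r _ e _).symm.trans hq
    rw [← LocalizedModule.zero_mk 1, LocalizedModule.mk_eq] at h1
    obtain ⟨v, hv⟩ := h1
    simp only [smul_zero, one_smul, Submonoid.smul_def, ← mul_smul] at hv
    have h2 := (SDiv28.bijective_smul_germ_gen (hs x) (hU x)).1 (hv.trans (zero_smul _ _).symm)
    rw [SDiv28.mk_eq_zero_iff]
    refine mem_nonZeroDivisors_iff.1 (mul_mem (Mero.regStalk_le_nonZeroDivisors x v.2) ((a x).2 ⟨x, hU x⟩)) |>.1 r ?_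
    rw [← h2]; ring

end charts

theorem exists_charts_of_regularMero {L : X.Modules} (hL : PicF.IsInvertible L) (h : Mero.HasRegularMero L) :
    ∃ (U : X → X.Opens) (_ : ∀ x, x ∈ U x) (s : ∀ x, Γ(L, U x)) (_ : ∀ x, IsGen L (U x) (s x))
      (a b : ∀ x, Mero.regSub X (U x)),
      ∀ (i j y : X) (hi : y ∈ U i) (hj : y ∈ U j) (c : X.presheaf.stalk y),
        L.presheaf.germ (U i) y hi (s i) = c • L.presheaf.germ (U j) y hj (s j) →
        X.presheaf.germ (U j) y hj (a j).1 * X.presheaf.germ (U i) y hi (b i).1 =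
          c * (X.presheaf.germ (U i) y hi (a i).1 * X.presheaf.germ (U j) y hj (b j).1) := by
  obtain ⟨σ, hσ⟩ := h
  have hloc : ∀ x : X, ∃ (U : X.Opens) (_ : x ∈ U) (g : Γ(L, U)) (_ : IsGen L U g) (a b : Mero.regSub X U),
      ∀ (y : X) (hy : y ∈ U), σ.1 ⟨y, trivial⟩ = LocalizedModule.mk
        (X.presheaf.germ U y hy a.1 • L.presheaf.germ U y hy g) (Mero.regGerm ⟨y, hy⟩ b) := by
    intro x
    obtain ⟨V, hxV, i, m, b, w⟩ := σ.2 ⟨x, trivial⟩
    obtain ⟨T, hxT, g, hg⟩ := exists_isGen hL x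
    let W := V ⊓ T
    let r := hg.coef (inf_le_right : W ≤ T) (resM L inf_le_left m)
    have hw : ∀ (y : X) (hy : y ∈ W), σ.1 ⟨y, trivial⟩ = LocalizedModule.mk
        (X.presheaf.germ W y hy r • L.presheaf.germ W y hy (resM L inf_le_right g))
        (Mero.regGerm ⟨y, hy.1⟩ b) := by
      intro y hy
      refine (w ⟨y, hy.1⟩).trans (Mero.mk_congr ?_ rfl)
      rw [← QCohLoc.germ_smul', hg.coef_spec]
      exact (TopCat.Presheaf.germ_res_apply L.presheaf _ y _ m).symm
    have hr : r ∈ Mero.regSub X W := fun y => by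
      rw [mem_nonZeroDivisors_iff_right]
      intro z hz
      refine Mero.algebraMap_KStalk_injective y.1 ((hσ y.1 (algebraMap _ _ z) ?_).trans (map_zero _).symm)
      rw [hw y.1 y.2, algebraMap_smul, LocalizedModule.smul'_mk, ← mul_smul, hz, zero_smul,
        LocalizedModule.zero_mk]
    refine ⟨W, ⟨hxV, hxT⟩, resM L inf_le_right g, hg.restrict _, ⟨r, hr⟩,
      ⟨X.presheaf.map (homOfLE inf_le_left).op b.1, Mero.regSub_res _ b.2⟩,
      fun y hy => (hw y hy).trans (Mero.mk_congr rfl (TopCat.Presheaf.germ_res_apply X.presheaf _ y hy b.1).symm)⟩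
  choose U hU g hg a b w using hloc
  refine ⟨U, hU, g, hg, a, b, fun i j y hi hj c h => ?_⟩
  obtain ⟨v, hv⟩ := LocalizedModule.mk_eq.1 ((w i y hi).symm.trans (w j y hj))
  simp only [Submonoid.smul_def, h, ← mul_smul] at hv
  have h2 := (SDiv28.bijective_smul_germ_gen (hg j) hj).1 hv
  have h3 : (X.presheaf.germ (U j) y hj (a j).1 * X.presheaf.germ (U i) y hi (b i).1 -
      c * (X.presheaf.germ (U i) y hi (a i).1 * X.presheaf.germ (U j) y hj (b j).1)) * v.1 = 0 := by
    rw [sub_mul, sub_eq_zero]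
    refine Eq.trans ?_ (h2.symm.trans ?_) <;> ring
  exact sub_eq_zero.1 (mem_nonZeroDivisors_iff_right.1 (Mero.regStalk_le_nonZeroDivisors y v.2) _ h3)

theorem exists_divisor_iff_hasRegularMero {L : X.Modules} (hL : PicF.IsInvertible L) :
    (∃ D : Mero.Divisor X, Nonempty (L ≅ Mero.divMod D)) ↔ Mero.HasRegularMero L := by
  constructor
  · rintro ⟨D, ⟨e⟩⟩
    choose U hUa hxU a b hab using exists_divisor_fraction D
    haveI : Mono (e.hom ≫ Mero.divModι D) := mono_comp _ _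
    have hr : ∀ (x : X) (V : X.Opens) (hV : V ≤ U x),
        Set.range ⇑((e.hom ≫ Mero.divModι D).val.app (Opposite.op V)) =
          {t : Γ(Mero.kmod X, V) | ∃ r : Γ(X, V), t = Mero.toK X V r *
            (Mero.kmod X).presheaf.map (homOfLE hV).op (((fracUnit (a x) (b x))⁻¹ : _) : Γ(Mero.kmod X, U x))} := by
      intro x V hV
      refine Eq.trans ?_ ((range_divModι D V).trans
        (Set.ext fun t => exists_mul_eq D (fracUnit (a x) (b x)) (fun y => hab x y.1 y.2) hV t))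
      change Set.range (((Mero.divModι D).app V) ∘ (e.hom.app V)) = _
      exact (ConcreteCategory.bijective_of_isIso (e.hom.app V)).surjective.range_comp _
    have hgen : ∀ x, ∃ s : Γ(L, U x), IsGen L (U x) s ∧
        (e.hom ≫ Mero.divModι D).app (U x) s = (((fracUnit (a x) (b x))⁻¹ : _) : Γ(Mero.kmod X, U x)) := by
      intro x
      obtain ⟨s, hs⟩ := isGen_of_range (e.hom ≫ Mero.divModι D) _ (hr x)
      have hu := isUnit_of_isGen (e.hom ≫ Mero.divModι D) hs
      have h1 : ∀ r : Γ(X, U x), (e.hom ≫ Mero.divModι D).app (U x) (r • s) =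
          Mero.toK X (U x) r * (e.hom ≫ Mero.divModι D).app (U x) s := fun r => by
        rw [Scheme.Modules.Hom.app_smul]; exact smul_eq_toK_mul r _
      have hmem : (e.hom ≫ Mero.divModι D).app (U x) s ∈
          Set.range ⇑((e.hom ≫ Mero.divModι D).val.app (Opposite.op (U x))) := ⟨s, rfl⟩
      rw [hr x (U x) le_rfl] at hmem
      obtain ⟨r, hr1⟩ := hmem
      have hmem2 : (((fracUnit (a x) (b x))⁻¹ : _) : Γ(Mero.kmod X, U x)) ∈
          Set.range ⇑((e.hom ≫ Mero.divModι D).app (U x)) := by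
        change _ ∈ Set.range ⇑((e.hom ≫ Mero.divModι D).val.app (Opposite.op (U x)))
        rw [hr x (U x) le_rfl]
        exact ⟨1, by rw [map_one, one_mul]; exact Subtype.ext (funext fun _ => rfl)⟩
      obtain ⟨t, ht⟩ := hmem2
      refine ⟨t, ?_, ht⟩
      have hru : IsUnit r := by
        have ht2 : t = hs.coef le_rfl t • s := by
          conv_lhs => rw [← hs.coef_spec le_rfl t]
          rw [resM_self]
        refine IsUnit.of_mul_eq_one (hs.coef le_rfl t) (toK_injective (U x) (hu.mul_left_inj.1 ?_))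
        rw [map_mul, map_one, one_mul, mul_assoc, ← h1, ← ht2, ht]
        exact hr1.symm
      have hts : t = ((hru.unit⁻¹ : Γ(X, U x)ˣ) : Γ(X, U x)) • s := by
        refine app_injective_of_mono (e.hom ≫ Mero.divModι D) (U x) ?_
        rw [ht, h1, hr1, ← mul_assoc, ← map_mul]
        rw [IsUnit.val_inv_mul, map_one, one_mul]
        exact Subtype.ext (funext fun _ => rfl)
      rw [hts]
      exact hs.smul_unit _
    choose s hs hsv using hgen
    refine hasRegularMero_of_charts U hxU s hs a b fun i j y hi hj c h => ?_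
    obtain ⟨V, hyV, c₀, rfl⟩ := X.presheaf.exists_germ_eq c
    have h0 : L.presheaf.germ (V ⊓ (U i ⊓ U j)) y ⟨hyV, hi, hj⟩
        (resM L (inf_le_right.trans inf_le_left) (s i)) = L.presheaf.germ (V ⊓ (U i ⊓ U j)) y ⟨hyV, hi, hj⟩
        (res (inf_le_left : V ⊓ (U i ⊓ U j) ≤ V) c₀ • resM L (inf_le_right.trans inf_le_right) (s j)) := by
      rw [QCohLoc.germ_smul', TopCat.Presheaf.germ_res_apply, TopCat.Presheaf.germ_res_apply,
        TopCat.Presheaf.germ_res_apply]
      exact h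
    obtain ⟨T, hyT, p, q, hT⟩ := TopCat.Presheaf.germ_eq L.presheaf y _ _ _ _ h0
    have h1 : (e.hom ≫ Mero.divModι D).app T (resM L p.le (resM L (inf_le_right.trans inf_le_left) (s i))) =
        (e.hom ≫ Mero.divModι D).app T (resM L p.le
          (res (inf_le_left : V ⊓ (U i ⊓ U j) ≤ V) c₀ • resM L (inf_le_right.trans inf_le_right) (s j))) :=
      congrArg _ hT
    rw [resM_smul, resM_resM, resM_resM, res_res, Scheme.Modules.Hom.app_smul, app_resM, app_resM,
      hsv, hsv] at h1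
    have h2 := congrArg (fun f : Γ(Mero.kmod X, T) => f.1 ⟨y, hyT⟩)
      (h1.trans (smul_eq_toK_mul _ _))
    dsimp only at h2
    rw [Mero.kmod_mul_apply, toK_val] at h2
    erw [TopCat.Presheaf.germ_res_apply] at h2
    change (frac (b i).1 (a i)).1 ⟨y, hi⟩ = _ * (frac (b j).1 (a j)).1 ⟨y, hj⟩ at h2
    refine Mero.algebraMap_KStalk_injective y ?_
    simp only [map_mul]
    rw [← frac_val_mul (b i).1 (a i) ⟨y, hi⟩, ← frac_val_mul (b j).1 (a j) ⟨y, hj⟩, h2]
    ring
  · intro h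
    obtain ⟨U, hU, s, hs, a, b, hc⟩ := exists_charts_of_regularMero hL h
    exact exists_divisor_of_charts U hU s hs a b hc

end Groth.Agent.MeroLib
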